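/- Fusion systems on a Sylow 3-subgroup of the Thompson group (S5228): the abstract facts on the group. -/
import Cfsg.Agent.FUS.Frattini
import Cfsg.Agent.FUS.Centric
import Cfsg.Agent.FUS.EssExt
import Cfsg.Agent.FUS.TransvEss
set_option autoImplicit false

namespace CL.T3
open Cfsg CL.Fus Subgroup

variable {P : Type*} [Group P]

/-- the commutator `x⁻¹ y⁻¹ x y` -/
def cm (x y : P) : P := x⁻¹ * y⁻¹ * x * y

/-- `f` acts on the plane spanned by `z₀, z₁` with determinant `ε` -/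
def Det (z₀ z₁ : P) (f : P → P) (ε : ZMod 3) : Prop :=
  ∃ a b c d : ℤ, f z₀ = z₀ ^ a * z₁ ^ c ∧ f z₁ = z₀ ^ b * z₁ ^ d ∧ ((a * d - b * c : ℤ) : ZMod 3) = ε

/-- `U` is invariant under all automorphisms of `E` -/
abbrev Ch (E U : Subgroup P) : Prop := AutInv (⊤ : Subgroup (MulAut E)) U

/-- The group of order `3 ^ 10` with its characteristic series `G 0 < G 1 < … < G 10`:
`G 1, …, G 4, G 6, G 8` is the upper central series, `G 5 = V` is elementary abelian, `G 7 = Φ(P)`,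
`G 9 = E₁ = C(G 2)`, `E2 = C(G 3 / G 1)`. -/
structure Sy (P : Type*) [Group P] where
  G : ℕ → Subgroup P
  g : ℕ → P
  E2 : Subgroup P
  card : ∀ j ≤ 10, Nat.card (G j) = 3 ^ j
  zero : G 0 = ⊥
  ten : G 10 = ⊤
  mono : ∀ j < 10, G j ≤ G (j + 1)
  mem : ∀ j < 10, g j ∈ G (j + 1)
  notMem : ∀ j < 10, g j ∉ G j
  cent : ∀ j < 10, ∀ x ∈ G (j + 1), ∀ y, cm x y ∈ G j
  E2_eq : E2 = G 8 ⊔ zpowers (g 9)
  E2_ne : g 8 ∉ E2
  chG : ∀ j ≤ 10, Ch ⊤ (G j)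
  chE2 : Ch ⊤ E2
  chU : Ch ⊤ (G 6 ⊔ zpowers (g 7))
  frat : G 7 ≤ frattini P
  center : ∀ x, (∀ y, x * y = y * x) → x ∈ G 1
  exp5 : ∀ x ∈ G 5, x ^ 3 = 1
  c55 : ∀ x ∈ G 5, ∀ y ∈ G 5, x * y = y * x
  c92 : ∀ x ∈ G 9, ∀ y ∈ G 2, x * y = y * x
  c95 : ∀ x ∈ G 9, ∀ y ∈ G 5, cm x y ∈ G 2
  c99 : ∀ x ∈ G 9, ∀ y ∈ G 9, cm x y ∈ G 5
  c88 : ∀ x ∈ G 8, ∀ y ∈ G 8, cm x y ∈ G 4
  cTT : ∀ x y, cm x y ∈ G 7
  cT8 : ∀ x, ∀ y ∈ G 8, cm x y ∈ G 6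
  cT6 : ∀ x, ∀ y ∈ G 6, cm x y ∈ G 4
  c97 : ∀ x ∈ G 9, cm x (g 7) ∈ G 4
  cE3 : ∀ x ∈ E2, ∀ y ∈ G 3, cm x y ∈ G 1
  n98 : cm (g 9) (g 8) ∉ G 6
  n86 : cm (g 8) (g 6) ∉ G 4
  n96 : cm (g 9) (g 6) ∉ G 5
  n97 : cm (g 9) (g 7) ∉ G 5
  n94 : cm (g 9) (g 4) ∉ G 3
  n93 : cm (g 9) (g 3) ∉ G 2
  n82 : cm (g 8) (g 2) ∉ G 1
  n91 : cm (g 9) (g 1) ≠ 1
  ch92 : Ch (G 9) (G 2)
  chE1 : Ch E2 (G 1)
  chE3 : Ch E2 (G 3)
  mv2 : ∀ H : Subgroup (MulAut E2), Inn E2 ≤ H → AutInv H (G 2) →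
    AutInv H (G 4) ∧ AutInv H (G 6) ∧ AutInv H (G 8)

/-- the conjugates of `E₃ = 3 ^ 5` -/
structure Sy.Th3 (Y : Sy P) (E : Subgroup P) : Prop where
  card : Nat.card E = 3 ^ 5
  comm : ∀ x ∈ E, ∀ y ∈ E, x * y = y * x
  exp : ∀ x ∈ E, x ^ 3 = 1
  ge : Y.G 2 ≤ E
  le : E ≤ Y.G 9
  nle : ¬ E ≤ Y.G 8
  cardC : Nat.card ↥(E ⊓ Y.G 5) = 3 ^ 3
  norm : normalizer (E : Set P) = E ⊔ Y.G 5
  free : ∀ v ∈ Y.G 5, ∀ y ∈ E, y ∉ Y.G 5 → v * y = y * v → v ∈ E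

/-- a saturated system on the group with the list of its possible essential subgroups -/
structure Sy.Cx (Y : Sy P) (F : FusionSystem (⊤ : Subgroup P)) : Prop where
  sat : F.IsSaturated 3
  ess : ∀ E, F.IsEssential 3 E → E = Y.G 9 ∨ E = Y.E2 ∨ Y.Th3 E

/-- `w ∈ Aut_F(E)` lies in the normal closure of `Aut_S(E)` and normalizes `Aut_S(E)` -/
structure Tor (F : FusionSystem (⊤ : Subgroup P)) (E : Subgroup P) (w : MulAut E) : Prop where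
  mem : w ∈ F.autGroup E
  cl : ∀ N : Subgroup (MulAut E), autInducedBy ⊤ E ≤ N → F.autGroup E ≤ normalizer (N : Set (MulAut E)) → w ∈ N
  norm : w ∈ normalizer ((autInducedBy ⊤ E : Subgroup (MulAut E)) : Set (MulAut E))

/-- `f` acts on `G (j + 1) / G j` as the `e`-th power -/
def Sy.W (Y : Sy P) (f : P → P) (j : ℕ) (e : ℤ) : Prop := (Y.g j ^ e)⁻¹ * f (Y.g j) ∈ Y.G j

namespace Sy
variable (Y : Sy P)
include Y

theorem finite : Finite P := by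
  have h := Y.card 10 le_rfl
  rw [Y.ten, Subgroup.card_top] at h
  exact Nat.finite_of_card_ne_zero (by rw [h]; norm_num)

theorem pg : IsPGroup 3 (⊤ : Subgroup P) := IsPGroup.of_card (Y.ten ▸ Y.card 10 le_rfl)

theorem le {i j : ℕ} (h : i ≤ j) (hj : j ≤ 10) : Y.G i ≤ Y.G j := by
  induction h with
  | refl => exact le_rfl
  | step _ ih => exact (ih (by omega)).trans (Y.mono _ (by omega))

theorem cj_mem {j : ℕ} (hj : j ≤ 10) {x : P} (hx : x ∈ Y.G j) (s : P) : cj s x ∈ Y.G j := by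
  have := Y.chG j hj (cjAut ⊤ s (le_normalizer (mem_top s))) trivial x trivial hx
  rwa [autFun_cjAut _ (mem_top x)] at this

theorem normal {j : ℕ} (hj : j ≤ 10) : (Y.G j).Normal := ⟨fun _ hx s => Y.cj_mem hj hx s⟩

theorem normalE2 : Y.E2.Normal := ⟨fun x hx s => by
  have := Y.chE2 (cjAut ⊤ s (le_normalizer (mem_top s))) trivial x trivial hx
  rwa [autFun_cjAut _ (mem_top x)] at this⟩

/-- `G (j + 1)` is generated over `G j` by any element outside `G j` -/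
theorem step {j : ℕ} (hj : j < 10) {R : Subgroup P} (hR : Y.G j ≤ R) {x : P} (hx : x ∈ Y.G (j + 1))
    (hx' : x ∉ Y.G j) (hxR : x ∈ R) : Y.G (j + 1) ≤ R := by
  have := Y.finite
  have h1 : Y.G j ≤ Y.G (j + 1) ⊓ R := le_inf (Y.mono j hj) hR
  have d1 := card_dvd_of_le h1
  have d2 := card_dvd_of_le (inf_le_left : Y.G (j + 1) ⊓ R ≤ _)
  rw [Y.card _ hj] at d2
  rw [Y.card _ hj.le] at d1
  obtain ⟨k, hk, e⟩ := (Nat.dvd_prime_pow Nat.prime_three).1 d2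
  rw [e] at d1
  have hjk := (Nat.pow_dvd_pow_iff_le_right (by norm_num)).1 d1
  rcases Nat.lt_or_ge j k with h | h
  · have : Y.G (j + 1) ⊓ R = Y.G (j + 1) := eq_of_le_of_card_ge inf_le_left (by
      rw [e, Y.card _ hj]; exact Nat.pow_le_pow_right (by norm_num) h)
    exact this ▸ inf_le_right
  · have : Y.G j = Y.G (j + 1) ⊓ R := eq_of_le_of_card_ge h1 (by
      rw [e, Y.card _ hj.le]; exact Nat.pow_le_pow_right (by norm_num) h)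
    exact absurd (this ▸ ⟨hx, hxR⟩) hx'

end Sy

end CL.T3
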