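/- S5228: a model from the polycyclic relations. -/
import Cfsg.Agent.FUS.T3.Md
set_option autoImplicit false
set_option maxRecDepth 100000

namespace CL.T3
open CL.K Subgroup

variable {Γ : Type*} [Group Γ]

/-- `g (j - 1) ^ d (j - 1) ⋯ g 0 ^ d 0`, `d` the digits of `x` -/
def wdj (g : ℕ → Γ) (x : ℕ) : ℕ → Γ
  | 0 => 1
  | j + 1 => g j ^ dg x j * wdj g x j

/-- the element with code `x` -/
def wd (g : ℕ → Γ) (x : ℕ) : Γ := wdj g x 10

/-- the polycyclic relations -/
structure Pc (g : ℕ → Γ) : Prop where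
  cube : ∀ j < 10, g j ^ 3 = wd g (cub (3 ^ j))
  conj : ∀ j < 10, ∀ i < j, g i * g j = g j * wd g (cjc (iv (3 ^ j)) (3 ^ i))

namespace Rel

variable {g : ℕ → Γ}

theorem peel {P : ℕ → Prop} {m : ℕ} (h0 : P 0) (hs : ∀ i < m, ∀ x < 2 * 3 ^ i, P x → P (3 ^ i + x)) :
    ∀ x < 3 ^ m, P x := fun x => by
  induction x using Nat.strong_induction_on with | _ x ih => ?_
  intro hx
  rcases x.eq_zero_or_pos with rfl | h
  · exact h0
  have h1 := Nat.pow_log_le_self 3 h.ne'
  have h2 := Nat.lt_pow_succ_log_self (b := 3) (by norm_num) x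
  have h3 : 0 < 3 ^ Nat.log 3 x := by positivity
  rw [← Nat.add_sub_cancel' h1]
  exact hs _ (Nat.log_lt_of_lt_pow h.ne' hx) _ (by rw [pow_succ] at h2; omega) (ih _ (by omega) (by omega))

theorem w0 (x : ℕ) : wdj g x 0 = 1 := rfl

theorem ws (x j : ℕ) : wdj g x (j + 1) = g j ^ dg x j * wdj g x j := rfl

theorem congr {x y j : ℕ} (h : ∀ i < j, dg x i = dg y i) : wdj g x j = wdj g y j := by
  induction j with
  | zero => rfl
  | succ j ih => rw [ws, ws, h j j.lt_succ_self, ih fun i hi => h i (by omega)]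

theorem hi {x m j : ℕ} (hx : x < 3 ^ m) (h : m ≤ j) : wdj g x j = wdj g x m := by
  induction j, h using Nat.le_induction with
  | base => rfl
  | succ j h ih =>
    rw [ws, ih, dg, Nat.div_eq_of_lt (hx.trans_le (Nat.pow_le_pow_right (by norm_num) h))]
    simp

theorem zero : wd g 0 = 1 := hi (m := 0) (by norm_num) (by norm_num)

theorem top {j d w : ℕ} (hj : j < 10) (hd : d < 3) (hw : w < 3 ^ j) : wd g (d * 3 ^ j + w) = g j ^ d * wd g w := by
  have h3 : 0 < 3 ^ j := by positivity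
  rw [wd, wd, hi (m := j + 1) (by rw [pow_succ]; nlinarith) hj, hi hw hj.le, ws, dg, add_comm,
    Nat.add_mul_div_right _ _ h3, Nat.div_eq_of_lt hw, zero_add, Nat.mod_eq_of_lt hd, congr fun i hi => ?_]
  obtain ⟨k, rfl⟩ := Nat.exists_eq_add_of_lt hi
  rw [dg, dg, show d * 3 ^ (i + k + 1) = d * 3 ^ k * 3 * 3 ^ i by ring, Nat.add_mul_div_right _ _ (by positivity),
    Nat.add_mul_mod_self_right]

theorem top1 {j x : ℕ} (hj : j < 10) (hx : x < 2 * 3 ^ j) : wd g (3 ^ j + x) = g j * wd g x := by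
  by_cases h : x < 3 ^ j
  · simpa using top (g := g) (d := 1) hj (by norm_num) h
  · have a := top (g := g) (d := 1) (w := x - 3 ^ j) hj (by norm_num) (by omega)
    have b := top (g := g) (d := 2) (w := x - 3 ^ j) hj (by norm_num) (by omega)
    rw [show 1 * 3 ^ j + (x - 3 ^ j) = x by omega] at a
    rw [show 3 ^ j + x = 2 * 3 ^ j + (x - 3 ^ j) by omega, b, a, pow_two, pow_one, mul_assoc]

theorem gen {j : ℕ} (hj : j < 10) : wd g (3 ^ j) = g j := by
  simpa [zero] using top1 (g := g) (x := 0) hj (by positivity)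

theorem top5 {j q v : ℕ} (hj : j < 5) (hq : q < 2 * 3 ^ j) (hv : v < 243) :
    wd g (243 * (3 ^ j + q) + v) = g (5 + j) * wd g (243 * q + v) := by
  rw [← top1 (by omega) (by rw [pow_add]; omega), pow_add]
  exact congrArg _ (by ring)

theorem split {v : ℕ} (hv : v < 243) : ∀ q < 3 ^ 5, wd g (243 * q + v) = wd g (243 * q) * wd g v :=
  peel (by simp [zero]) fun i hi q hq ih => by
    have := top5 (g := g) hi hq (v := 0) (by norm_num)
    rw [add_zero, add_zero] at this
    rw [top5 hi hq hv, this, ih, mul_assoc]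

/-- the code of the conjugate of `x` by `g k` -/
noncomputable def c (k x : ℕ) : ℕ := Nat.mod (mu x (p3 k)) (p3 k)

theorem k0 : allLt (fun k => isz (c k (nat_lit 0)) && allLt (fun i => Nat.beq (c k (p3 i)) (cjc (iv (p3 k)) (p3 i))) k &&
    Nat.blt (cub (p3 k)) (p3 k)) (nat_lit 10) = true := by decide +kernel

theorem k1 : allLt (fun k => isz (cub (p3 k)) && allLt (fun i => Nat.beq (c k (p3 i)) (p3 i)) k) (nat_lit 5) = true := by
  decide +kernel

theorem k2 : allLt (fun v => Nat.beq (mu v (nat_lit 0)) v &&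
    allLt (fun k => Nat.blt (c k v) (nat_lit 243)) (nat_lit 10)) (nat_lit 243) = true := by decide +kernel

theorem k3 : allLt (fun k => allLt (fun i => frc (c k (p3 i)) fun a => allLt2 (fun x => frc x fun x =>
    Nat.beq (c k (Nat.add (p3 i) x)) (frc (c k x) (mu a))) (Nat.mul (nat_lit 2) (p3 (Nat.div i (nat_lit 2))))
      (p3 (Nat.sub i (Nat.div i (nat_lit 2))))) k) (nat_lit 10) = true := by decide +kernel

theorem k4 : allLt (fun j => allLt (fun v => frc (c (Nat.add (nat_lit 5) j) v) fun a => allLt (fun q =>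
    Nat.beq (Nat.mod (mu v (Nat.mul (nat_lit 243) (Nat.add (p3 j) q))) (nat_lit 243))
      (Nat.mod (mu a (Nat.mul (nat_lit 243) q)) (nat_lit 243))) (Nat.mul (nat_lit 2) (p3 j))) (nat_lit 243))
    (nat_lit 5) = true := by decide +kernel

/-- iterated conjugation -/
noncomputable def it (k x d : ℕ) : ℕ := Nat.rec (motive := fun _ => ℕ) x (fun _ z => frc z (c k)) d

/-- the check of the products of the multiples of `243` -/
noncomputable def ck (j e : ℕ) : Bool := frc (Nat.add (nat_lit 5) j) fun k => frc (p3 k) fun n => frc (cub n) fun u =>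
  allLt (fun q => frc (Nat.mul (nat_lit 243) q) fun x => frc (it k x e) fun z => allLt (fun r =>
    frc (Nat.mul (nat_lit 243) r) fun y => frc (mu z y) fun w => allLt (fun d =>
      Nat.beq (mu (Nat.add (Nat.mul d n) x) (Nat.add (Nat.mul e n) y))
        (Nat.add (Nat.mul (Nat.mod (Nat.add d e) (nat_lit 3)) n)
          (bif Nat.blt (Nat.add d e) (nat_lit 3) then w else mu u w))) (nat_lit 3)) (p3 j)) (p3 j)

theorem k5 : allLt (fun j => allLt (ck j) (nat_lit 3)) (nat_lit 5) = true := by decide +kernel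

theorem cg (h : Pc g) {i k : ℕ} (hk : k < 10) (hi : i < k) : g i * g k = g k * wd g (c k (3 ^ i)) := by
  have := allLt_iff.1 k0 k hk
  simp only [Bool.and_eq_true, allLt_iff, Nat.beq_eq, p3_eq] at this
  rw [this.1.2 i hi, h.conj k hk i hi]

theorem comm (h : Pc g) {j : ℕ} (hj : j < 5) : g j ^ 3 = 1 ∧ ∀ x, ∀ i ≤ j, Commute (g j) (wdj g x i) := by
  have := allLt_iff.1 k1 j hj
  simp only [Bool.and_eq_true, allLt_iff, Nat.beq_eq, p3_eq, isz_iff] at this
  refine ⟨by rw [h.cube j (by omega), this.1, zero], fun x i hi => ?_⟩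
  induction i with
  | zero => exact Commute.one_right _
  | succ i ih =>
    have e := cg h (by omega : j < 10) hi
    rw [this.2 i hi, gen (by omega)] at e
    exact (Commute.pow_right e.symm _).mul_right (ih (by omega))

theorem add3 (h : Pc g) {a b d : ℕ} (ha : a < 243) (hb : b < 243) (hd : d < 243) :
    wd g (ad3 a b d) = wd g a * wd g b * wd g d := by
  have k : ∀ j ≤ 5, wdj g (ad3 a b d) j = wdj g a j * wdj g b j * wdj g d j := fun j hj => by
    induction j with
    | zero => simp [w0]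
    | succ j ih =>
      obtain ⟨h3, hc⟩ := comm h hj
      have e : dg (ad3 a b d) j = (dg a j + dg b j + dg d j) % 3 := by
        have : j < 5 := hj
        rw [dg, ad3]
        interval_cases j <;> omega
      rw [ws, ws, ws, ws, ih (by omega), e, ← pow_eq_pow_mod _ h3, pow_add, pow_add]
      have a1 := fun n => ((hc a j le_rfl).pow_left n).eq
      have b1 := fun n => ((hc b j le_rfl).pow_left n).eq
      calc _ = g j ^ dg a j * (g j ^ dg b j * (g j ^ dg d j * wdj g a j)) * wdj g b j * wdj g d j := by group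
        _ = g j ^ dg a j * (g j ^ dg b j * wdj g a j) * (g j ^ dg d j * wdj g b j) * wdj g d j := by rw [a1]; group
        _ = _ := by rw [a1, b1]; group
  have k' : ∀ x < 243, wd g x = wdj g x 5 := fun x hx => hi (m := 5) hx (by norm_num)
  rw [k' _ (ad3_lt _ _ _), k' _ ha, k' _ hb, k' _ hd, k 5 le_rfl]

/-- multiplicativity below `3 ^ m` -/
def Mu (g : ℕ → Γ) (m : ℕ) : Prop := ∀ x < 3 ^ m, ∀ y < 3 ^ m, wd g (mu x y) = wd g x * wd g y

theorem cj (h : Pc g) {m k : ℕ} (hk : k < 10) (hm : m ≤ k) (hM : Mu g m) (hc : ∀ x < 3 ^ m, c k x < 3 ^ m) :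
    ∀ x < 3 ^ m, wd g x * g k = g k * wd g (c k x) := by
  refine peel ?_ fun i hi x hx ih => ?_
  · have := allLt_iff.1 k0 k hk
    simp only [Bool.and_eq_true, isz_iff] at this
    rw [this.1.1, zero, one_mul, mul_one]
  have l : 3 ^ i * 3 ≤ 3 ^ m := (pow_succ 3 i).ge.trans (Nat.pow_le_pow_right (by norm_num) hi)
  have p : 0 < 3 ^ i := by positivity
  have := allLt_iff.1 (allLt_iff.1 k3 k hk) i (by omega)
  rw [frc_eq] at this
  replace := allLt2_iff.1 this x (by
    rwa [Nat.mul_eq, p3_eq, p3_eq, mul_assoc, ← pow_add, Nat.sub_eq,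
      Nat.add_sub_cancel' (show i.div 2 ≤ i from Nat.div_le_self _ _)])
  simp only [frc_eq, Nat.beq_eq, p3_eq, Nat.add_eq] at this
  rw [this, top1 (by omega) hx, hM _ (hc _ (by omega)) _ (hc _ (by omega)), mul_assoc, ih, ← mul_assoc,
    cg h hk (by omega), mul_assoc]

theorem v2 {v : ℕ} (hv : v < 243) : mu v 0 = v ∧ ∀ k < 10, c k v < 243 := by
  simpa only [Bool.and_eq_true, allLt_iff, Nat.beq_eq, Nat.blt_eq] using allLt_iff.1 k2 v hv

theorem mu5 (h : Pc g) : Mu g 5 := fun x hx y hy => by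
  have hx : x < 243 := hx
  have hy : y < 243 := hy
  rw [mu_eq (by omega) (by omega), Nat.div_eq_of_lt hx, Nat.div_eq_of_lt hy, mul_zero, mu_zero, Nat.mod_eq_of_lt hx,
    Nat.mod_eq_of_lt hy, (v2 hx).1, Nat.mod_eq_of_lt hx, Nat.zero_div, zero_mul, zero_add, Nat.zero_mod,
    add3 h (by norm_num) hx hy, zero, one_mul]

theorem act (h : Pc g) : ∀ q < 3 ^ 5, ∀ v < 243,
    wd g v * wd g (243 * q) = wd g (243 * q) * wd g (mu v (243 * q) % 243) := by
  refine peel (fun v hv => by rw [mul_zero, (v2 hv).1, Nat.mod_eq_of_lt hv, zero, one_mul, mul_one])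
    fun j hj q hq ih v hv => ?_
  have := allLt_iff.1 (allLt_iff.1 (allLt_iff.1 k4 j hj) v hv) q hq
  simp only [Nat.beq_eq, p3_eq, Nat.add_eq, Nat.mul_eq] at this
  have e := top5 (g := g) hj hq (v := 0) (by norm_num)
  rw [add_zero, add_zero] at e
  rw [show mu v (243 * (3 ^ j + q)) % 243 = _ from this, e, ← mul_assoc,
    cj h (by omega) (by omega) (mu5 h) (fun x hx => (v2 hx).2 _ (by omega)) v hv, mul_assoc,
    ih _ ((v2 hv).2 _ (by omega)), mul_assoc]
  rfl

theorem lift (h : Pc g) {x y : ℕ} (hx : x < 59049) (hy : y < 59049)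
    (e : wd g (mu (243 * (x / 243)) (243 * (y / 243))) = wd g (243 * (x / 243)) * wd g (243 * (y / 243))) :
    wd g (mu x y) = wd g x * wd g y := by
  have s : ∀ z < 59049, wd g z = wd g (243 * (z / 243)) * wd g (z % 243) := fun z hz => by
    rw [← split (by omega) _ (by omega), Nat.div_add_mod]
  have l := mu_lt (x := 243 * (x / 243)) (y := 243 * (y / 243)) (by omega) (by omega)
  rw [s _ l] at e
  rw [mu_eq hx hy, mul_comm _ 243, split (ad3_lt _ _ _) _ (by omega), add3 h (by omega) (by omega) (by omega),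
    ← mul_assoc, ← mul_assoc, e, mul_assoc (wd g _), ← act h _ (by omega) _ (by omega), s x hx, s y hy]
  group

theorem step (h : Pc g) {j : ℕ} (hj : j < 5) (hM : Mu g (5 + j)) : Mu g (5 + (j + 1)) := fun x hx y hy => by
  have l : 3 ^ (5 + (j + 1)) ≤ 59049 := Nat.pow_le_pow_right (by norm_num) (show 5 + (j + 1) ≤ 10 by omega)
  have p : 0 < 3 ^ j := by positivity
  have n : 3 ^ (5 + j) = 243 * 3 ^ j := pow_add 3 5 j
  have cl : ∀ x, c (5 + j) x < 3 ^ (5 + j) := fun x => Nat.mod_lt _ (by rw [p3_eq]; positivity)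
  have s : ∀ z < 3 ^ (5 + (j + 1)), ∃ d < 3, ∃ q < 3 ^ j, 243 * (z / 243) = d * 3 ^ (5 + j) + 243 * q := fun z hz =>
    ⟨z / 243 / 3 ^ j, by rw [Nat.div_lt_iff_lt_mul p]; rw [← add_assoc, pow_succ, n] at hz; omega, _, Nat.mod_lt (z / 243) p,
      by rw [n, mul_left_comm, ← mul_add, Nat.div_add_mod']⟩
  refine lift h (by omega) (by omega) ?_
  obtain ⟨d, hd, q, hq, e1⟩ := s x hx
  obtain ⟨e, he, r, hr, e2⟩ := s y hy
  have k := allLt_iff.1 (allLt_iff.1 k5 j hj) e he
  simp only [ck, frc_eq, allLt_iff, Nat.beq_eq, p3_eq, Nat.add_eq, Nat.mul_eq] at k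
  have a : ∀ e, it (5 + j) (243 * q) e < 3 ^ (5 + j) ∧
      wd g (243 * q) * g (5 + j) ^ e = g (5 + j) ^ e * wd g (it (5 + j) (243 * q) e) := fun e => by
    induction e with
    | zero => exact ⟨show 243 * q < _ by omega, by simp [it]⟩
    | succ e ih =>
      refine ⟨cl _, ?_⟩
      rw [pow_succ, ← mul_assoc, ih.2, mul_assoc, cj h (by omega) le_rfl hM (fun x _ => cl x) _ ih.1, mul_assoc]
      rfl
  have u := allLt_iff.1 k0 (5 + j) (show _ < 10 by omega)
  simp only [Bool.and_eq_true, Nat.blt_eq, p3_eq] at u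
  have w := mu_lt_pow (by omega) (a e).1 (show 243 * r < _ by omega)
  have m : ∀ n : ℕ, Nat.mod n 3 = n % 3 := fun _ => rfl
  rw [e1, e2, k q hq r hr d hd, top (by omega) hd (by omega), top (by omega) he (by omega), mul_assoc,
    ← mul_assoc (wd g _), (a e).2, mul_assoc, ← hM _ (a e).1 _ (by omega), ← mul_assoc, ← pow_add, m]
  by_cases b : d + e < 3
  · rw [Nat.blt_eq.mpr b, cond_true, Nat.mod_eq_of_lt b, top (by omega) b w]
  · rw [show Nat.blt (d + e) 3 = false by simpa [← Bool.not_eq_true, Nat.blt_eq] using b, cond_false,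
      top (by omega) (by omega) (mu_lt_pow (by omega) u.2 w), hM _ u.2 _ w, ← h.cube _ (by omega), ← mul_assoc,
      ← pow_add, show (d + e) % 3 + 3 = d + e by omega]

/-- a smaller element of the kernel -/
noncomputable def sm (x : ℕ) : Bool := frc x fun x => Nat.blt x (nat_lit 3) ||
  anyLt (fun i => frc (cmc x (p3 (Nat.add (nat_lit 7) i))) fun z => !isz z && Nat.blt z x) (nat_lit 3)

theorem k6 : allLt2 sm (nat_lit 81) (nat_lit 243) = true := by decide +kernel

theorem k7 : allLt2 (fun x => sm (Nat.add (nat_lit 19683) x)) (nat_lit 81) (nat_lit 243) = true := by decide +kernel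

theorem k8 : allLt2 (fun x => sm (Nat.add (nat_lit 39366) x)) (nat_lit 81) (nat_lit 243) = true := by decide +kernel

theorem sm_all {x : ℕ} (hx : x < 59049) : sm x = true := by
  by_cases a : x < 19683
  · exact allLt2_iff.1 k6 x a
  by_cases b : x < 39366
  · exact (show 19683 + (x - 19683) = x by omega) ▸ allLt2_iff.1 k7 (x - 19683) (show _ < 19683 by omega)
  · exact (show 39366 + (x - 39366) = x by omega) ▸ allLt2_iff.1 k8 (x - 39366) (show _ < 19683 by omega)

end Rel

/-- STUB `T3/Rel`, part 1 (~200 lines; kernel checks by `allLt2 … 243 243`, `decide +kernel`, 60 µs per `mu`, at most 150000 `mu` per check).  `e = wd g`.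
(0) `e (243 q + v) = e (243 q) * e v` (`q, v < 243`); top digit: `e (d 3 ^ j + w) = g j ^ d * e w` (`w < 3 ^ j`, `d < 3`); PEEL: if `x % 3 ^ i = 0`, `dg x i < 2` then
`e (x + 3 ^ i) = e x * g i`, and every `0 < y < 3 ^ j` is such an `x + 3 ^ i`, `i < j` (induction principle).
(A) `g 0, …, g 4` commute and have cube `1` (evaluate the codes in `Pc` by `decide +kernel`), so `e (ad3 a b c) = e a * e b * e c` for `a, b, c < 243`.
(B0) `5 ≤ k < 10`, `v < 243`, `act v k = mu v (3 ^ k) % 243`: `e v * g k = g k * e (act v k)`; peel `v`; check `act (v + 3 ^ i) k = ad3 (act v k) (act (3 ^ i) k) 0`,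
`act (3 ^ i) k = cjc (iv (3 ^ k)) (3 ^ i)`, `act 0 k = 0`.
(B) `e v * e (243 q) = e (243 q) * e (mu v (243 q) % 243)`; peel `q`; check `mu v (243 (q + 3 ^ i)) % 243 = act (mu v (243 q) % 243) (5 + i)`, `mu v 0 = v`.
(H) if `e (243 q) * e (243 r) = e (mu (243 q) (243 r))` then `e x * e y = e (mu x y)` for `x / 243 = q`, `y / 243 = r` (`mu_eq`, (0), (A), (B)).
(C j) the hypothesis of (H) for `q, r < 3 ^ j`, by induction on `j ≤ 5`.  Given (C j), so multiplicativity below `3 ^ k`, `k = 5 + j`: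
(i) `e (243 q) * g k = g k * e (c q)` for `q < 3 ^ j`, `c q = cjc (iv (3 ^ k)) (243 q)`; peel `q`; check `c q < 3 ^ k`, `c (q + 3 ^ i) = mu (c q) (c (3 ^ i))`, `c 0 = 0`.
(ii) `e (243 q) * g (5 + i) = e (mu (243 q) (3 ^ (5 + i)))` for `q = d 3 ^ j + q' < 3 ^ (j + 1)`, `i ≤ j`; check: for `i < j` the code is
`d 3 ^ k + mu (243 q') (3 ^ (5 + i))`; for `i = j`, `d < 2` it is `(d + 1) 3 ^ k + c q'`; for `d = 2` it is `mu (cub (3 ^ k)) (c q')`, `cub (3 ^ k) < 3 ^ k`.
(iii) (C (j + 1)): peel `r`; `t = mu (243 q) (243 r) < 3 ^ (k + 1)` (`mu_dig`), `e t * g (5 + i) = e (mu t (3 ^ (5 + i)))` by (H) and (ii); check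
`mu t (3 ^ (5 + i)) = mu (243 q) (243 (r + 3 ^ i))`, `mu (243 q) 0 = 243 q`. -/
theorem Pc.mul {g : ℕ → Γ} (h : Pc g) {x y : ℕ} (hx : x < 59049) (hy : y < 59049) : wd g (mu x y) = wd g x * wd g y := by
  have k : ∀ j ≤ 5, Rel.Mu g (5 + j) := fun j hj => by
    induction j with
    | zero => exact Rel.mu5 h
    | succ j ih => exact Rel.step h hj (ih (by omega))
  exact k 5 le_rfl x hx y hy

/-- part 2 (~60 lines).  `e x = 1 → x = 0` by strong induction: `e 1 = g 0`, `e 2 = g 0 ^ 2`, `g 0 ^ 3 = 1`; kernel check (in 3 or 4 pieces): for `3 ≤ x < 59049`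
one of `cmc x (3 ^ 9)`, `cmc x (3 ^ 8)`, `cmc x (3 ^ 7)` is nonzero and `< x`.  Then `e x = e y`, `x, y < 3 ^ j` gives `x = y` by induction on `j`:
`mu x (iv y) = 0 = mu y (iv y)` (`iv_lt_pow`), so the top digits agree (`mu_dig`); cancel `g j ^ d`. -/
theorem Pc.inj {g : ℕ → Γ} (h : Pc g) (h0 : g 0 ≠ 1) {x y : ℕ} (hx : x < 59049) (hy : y < 59049)
    (e : wd g x = wd g y) : x = y := by
  have i : ∀ {x}, x < 59049 → wd g (iv x) = (wd g x)⁻¹ := fun hx =>
    eq_inv_of_mul_eq_one_right (by rw [← h.mul hx (iv_lt hx), mu_iv hx, Rel.zero])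
  have k : ∀ x < 59049, wd g x = 1 → x = 0 := fun x => by
    induction x using Nat.strong_induction_on with | _ x ih => ?_
    intro hx e
    have := Rel.sm_all hx
    simp only [Rel.sm, frc_eq, Bool.or_eq_true, Bool.and_eq_true, anyLt_iff, Nat.blt_eq, Bool.not_eq_true', isz_false,
      p3_eq, Nat.add_eq] at this
    rcases this with a | ⟨j, hj, a, b⟩
    · have t := Rel.top (g := g) (j := 0) (w := 0) (by norm_num) a (by norm_num)
      rw [pow_zero, mul_one, add_zero, e, Rel.zero, mul_one] at t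
      have t3 := (Rel.comm h (j := 0) (by norm_num)).1
      by_contra n
      obtain rfl | rfl : x = 1 ∨ x = 2 := by omega
      · exact h0 (by simpa using t.symm)
      · exact h0 (by rwa [pow_succ, ← t, one_mul] at t3)
    · have l : 3 ^ (7 + j) < 59049 := Nat.pow_lt_pow_right (by norm_num) (show 7 + j < 10 by omega)
      refine (a (ih _ b (by omega) ?_)).elim
      rw [cmc, h.mul (iv_lt (mu_lt l hx)) (mu_lt hx l), i (mu_lt l hx), h.mul l hx, h.mul hx l, e]
      simp
  suffices k' : ∀ j ≤ 10, ∀ x < 3 ^ j, ∀ y < 3 ^ j, wd g x = wd g y → x = y from k' 10 le_rfl x hx y hy e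
  intro j hj
  induction j with
  | zero => omega
  | succ j ih =>
    intro x hx y hy e
    have l : 3 ^ (j + 1) ≤ 59049 := Nat.pow_le_pow_right (by norm_num) hj
    have p : 0 < 3 ^ j := by positivity
    have a := (mu_dig hj hx (iv_lt_pow hj hy)).2
    have b := (mu_dig hj hy (iv_lt_pow hj hy)).2
    rw [k _ (mu_lt (by omega) (iv_lt (by omega))) (by
      rw [h.mul (by omega) (iv_lt (by omega)), i (by omega), e, mul_inv_cancel])] at a
    rw [mu_iv (by omega)] at b
    have d : ∀ z < 3 ^ (j + 1), z / 3 ^ j < 3 := fun z hz => by rwa [Nat.div_lt_iff_lt_mul p, ← pow_succ']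
    have c : x / 3 ^ j = y / 3 ^ j := by
      have := d x hx
      have := d y hy
      rw [Nat.zero_div] at a b
      generalize x / 3 ^ j = X, y / 3 ^ j = Y, iv y / 3 ^ j = Z at *
      omega
    rw [← Nat.div_add_mod' x (3 ^ j), ← Nat.div_add_mod' y (3 ^ j)] at e ⊢
    rw [Rel.top hj (d x hx) (Nat.mod_lt _ p), Rel.top hj (d y hy) (Nat.mod_lt _ p), c, mul_right_inj] at e
    rw [c, ih (by omega) _ (Nat.mod_lt _ p) _ (Nat.mod_lt _ p) e]

theorem Pc.exists_md {g : ℕ → Γ} (h : Pc g) (h0 : g 0 ≠ 1) : ∃ Q : Subgroup Γ, Nonempty (Md Q) := by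
  have h1 : wd g 0 = 1 := by
    have := h.mul (x := 0) (y := 0) (by norm_num) (by norm_num)
    rw [mu_zero] at this
    simpa using this
  refine ⟨⟨⟨⟨{a | ∃ x < 59049, wd g x = a}, ?_⟩, 0, by norm_num, h1⟩, ?_⟩,
    ⟨⟨fun x => if hx : x < 59049 then ⟨wd g x, x, hx, rfl⟩ else 1, fun hx hy => ?_, fun hx hy e => ?_, ?_⟩⟩⟩
  · rintro _ _ ⟨x, hx, rfl⟩ ⟨y, hy, rfl⟩
    exact ⟨_, mu_lt hx hy, h.mul hx hy⟩
  · rintro _ ⟨x, hx, rfl⟩
    exact ⟨_, iv_lt hx, eq_inv_of_mul_eq_one_right (by rw [← h.mul hx (iv_lt hx), mu_iv hx, h1])⟩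
  · simp only [hx, hy, mu_lt hx hy, dif_pos]
    exact Subtype.ext (h.mul hx hy)
  · simp only [hx, hy, dif_pos] at e
    exact h.inj h0 hx hy (congrArg Subtype.val e)
  · rintro ⟨_, x, hx, rfl⟩
    exact ⟨x, hx, dif_pos hx⟩

end CL.T3
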