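/- S5228: the automizer of the essential subgroup `3 ^ 5`. -/
import Cfsg.Agent.FUS.T3.Defs
set_option autoImplicit false

namespace CL.T3
open Cfsg CL.Fus Subgroup

variable {P : Type*} [Group P]

namespace LA
open CL.TV

/-- a hom with small kernel is onto a subgroup containing its image -/
theorem le_range {A B : Type*} [Group A] [Group B] [Finite A] (f : A →* B) {K : Subgroup A} {R : Subgroup B}
    [Finite R] (hK : f.ker ≤ K) (hR : f.range ≤ R) (hc : Nat.card A = Nat.card K * Nat.card R) : R ≤ f.range := by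
  refine (eq_of_le_of_card_ge hR ?_).ge
  have h1 := f.ker.card_mul_index
  rw [index_ker, hc] at h1
  have h2 := card_le_of_le hK
  by_contra hlt
  have h3 : Nat.card f.ker * Nat.card f.range < Nat.card K * Nat.card R :=
    Nat.mul_lt_mul_of_le_of_lt h2 (not_le.1 hlt) Nat.card_pos
  omega

variable {V : Type*} [CommGroup V]

/-- `y ↦ [y, σ]` -/
def nn (σ : MulAut V) : V →* V where
  toFun y := y⁻¹ * σ y
  map_one' := by simp
  map_mul' x y := by rw [map_mul, mul_inv, mul_mul_mul_comm]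

theorem nn_apply (σ : MulAut V) (y : V) : nn σ y = y⁻¹ * σ y := rfl

theorem app (σ : MulAut V) (y : V) : σ y = y * nn σ y := by rw [nn_apply, mul_inv_cancel_left]

theorem nn_eq_one {σ : MulAut V} {y : V} : nn σ y = 1 ↔ σ y = y := by rw [nn_apply, inv_mul_eq_one, eq_comm]

theorem nn_conj (k σ : MulAut V) (y : V) : nn (k * σ * k⁻¹) y = k (nn σ (k⁻¹ y)) := by
  rw [nn_apply, nn_apply, map_mul, map_inv, MulAut.mul_apply, MulAut.mul_apply, MulAut.apply_inv_self]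

theorem zp {x : V} (h : x ^ 3 = 1) {m n : ℤ} (e : (m : ZMod 3) = n) : x ^ m = x ^ n := by
  obtain ⟨c, hc⟩ := (ZMod.intCast_eq_intCast_iff_dvd_sub m n 3).1 e
  have : n = m + 3 * c := by push_cast at hc; omega
  rw [this, zpow_add, zpow_mul, show x ^ (3 : ℤ) = 1 by exact_mod_cast h, one_zpow, mul_one]

/-- the automorphisms that stabilize `Z` and `C` -/
def St (Z C : Subgroup V) : Subgroup (MulAut V) where
  carrier := {k | (∀ y, k y ∈ Z ↔ y ∈ Z) ∧ ∀ y, k y ∈ C ↔ y ∈ C}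
  one_mem' := ⟨fun _ => Iff.rfl, fun _ => Iff.rfl⟩
  mul_mem' := fun {k l} hk hl => ⟨fun y => (hk.1 (l y)).trans (hl.1 y), fun y => (hk.2 (l y)).trans (hl.2 y)⟩
  inv_mem' := fun {k} hk => ⟨fun y => by rw [← hk.1, MulAut.apply_inv_self],
    fun y => by rw [← hk.2, MulAut.apply_inv_self]⟩

structure LD (G T : Subgroup (MulAut V)) (Z C : Subgroup V) (a b : V) : Prop where
  syl : SylIn 3 T G
  exp : ∀ x : V, x ^ 3 = 1
  le : Z ≤ C
  ha : a ∈ Z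
  hb : b ∈ Z
  span : ∀ z ∈ Z, ∃ i j : ℤ, z = a ^ i * b ^ j
  ind : ∀ i j : ℤ, a ^ i * b ^ j = 1 → (i : ZMod 3) = 0 ∧ (j : ZMod 3) = 0
  fix : ∀ t ∈ T, ∀ c ∈ C, t c = c
  com : ∀ t ∈ T, ∀ y, nn t y ∈ Z
  free : ∀ t ∈ T, ∀ y, y ∉ C → t y = y → t = 1
  onT : ∀ y, y ∉ C → ∀ z ∈ Z, ∃ t ∈ T, nn t y = z
  onV : ∀ t ∈ T, t ≠ 1 → ∀ z ∈ Z, ∃ y, nn t y = z
  nrm : ¬ G ≤ normalizer (T : Set (MulAut V))

theorem dec1 : ∀ b : ZMod 3, b ≠ 0 → b * b = 1 := by decide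

theorem dec2 : ∀ a b c d : ZMod 3, (a * d - b * c = -1 ∨ (a + 1) * (d + 1) - b * c = -1) ∨
    ∃ i j l : ZMod 3, ¬ (i = 0 ∧ j = 0) ∧ a * i + b * j = i * l ∧ c * i + d * j = j * l := by decide

namespace LD
variable {G T : Subgroup (MulAut V)} {Z C : Subgroup V} {a b : V} (h : LD G T Z C a b)
include h

theorem pg : IsPGroup 3 V := fun x => ⟨1, by rw [pow_one, h.exp]⟩

theorem a_ne : a ≠ 1 := fun e => by
  have := (h.ind 1 0 (by simp [e])).1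
  revert this; decide

theorem n1 {t : MulAut V} (ht : t ∈ T) {c : V} (hc : c ∈ C) : nn t c = 1 := nn_eq_one.2 (h.fix t ht c hc)

theorem memC {t : MulAut V} (ht : t ∈ T) (h1 : t ≠ 1) (y : V) : y ∈ C ↔ t y = y :=
  ⟨h.fix t ht y, fun e => by_contra fun hy => h1 (h.free t ht y hy e)⟩

theorem memZ {t : MulAut V} (ht : t ∈ T) (h1 : t ≠ 1) (y : V) : y ∈ Z ↔ ∃ x, nn t x = y :=
  ⟨h.onV t ht h1 y, fun ⟨x, e⟩ => e ▸ h.com t ht x⟩

theorem st_of_conj {t k : MulAut V} (ht : t ∈ T) (h1 : t ≠ 1) (hk : k * t * k⁻¹ ∈ T) : k ∈ St Z C := by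
  have h2 : k * t * k⁻¹ ≠ 1 := fun e => h1 (by simpa using e)
  refine ⟨fun y => ?_, fun y => ?_⟩
  · rw [h.memZ hk h2, h.memZ ht h1]
    refine ⟨fun ⟨x, e⟩ => ⟨k⁻¹ x, k.injective (by rw [← e, nn_conj])⟩, fun ⟨x, e⟩ => ⟨k x, ?_⟩⟩
    rw [nn_conj, MulAut.inv_apply_self, e]
  · rw [h.memC hk h2, h.memC ht h1, MulAut.mul_apply, MulAut.mul_apply, MulAut.inv_apply_self, k.apply_eq_iff_eq]

theorem exists_ne : ∃ t ∈ T, t ≠ 1 := by
  by_contra hn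
  push Not at hn
  exact h.nrm (le_normalizer_of_conj_mem fun t ht g _ => by rw [hn t ht]; simp)

theorem basis {u : V} (hu : u ∈ Z) (h1 : u ≠ 1) : ∃ e ∈ Z, ∀ z ∈ Z, ∃ i j : ℤ, z = u ^ i * e ^ j := by
  obtain ⟨m, n, rfl⟩ := h.span u hu
  by_cases hn : (n : ZMod 3) = 0
  · have e1 : b ^ n = 1 := by rw [zp (h.exp b) (n := 0) (by simpa using hn), zpow_zero]
    have hm : (m : ZMod 3) ≠ 0 := fun hm => h1 (by rw [e1, zp (h.exp a) (n := 0) (by simpa using hm)]; simp)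
    refine ⟨b, h.hb, fun z hz => ?_⟩
    obtain ⟨i, j, rfl⟩ := h.span z hz
    refine ⟨m * i, j, ?_⟩
    rw [e1, mul_one, ← zpow_mul, zp (h.exp a) (m := m * (m * i)) (n := i)
      (by push_cast; rw [← mul_assoc, dec1 _ hm, one_mul])]
  · refine ⟨a, h.ha, fun z hz => ?_⟩
    obtain ⟨i, j, rfl⟩ := h.span z hz
    refine ⟨n * j, i - m * (n * j), ?_⟩
    rw [mul_zpow, ← zpow_mul, ← zpow_mul, zp (h.exp b) (m := n * (n * j)) (n := j)
      (by push_cast; rw [← mul_assoc, dec1 _ hn, one_mul]), mul_right_comm, ← zpow_add]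
    congr 2; ring

theorem nn_mul {s t : MulAut V} (hs : s ∈ T) (ht : t ∈ T) (y : V) : nn (s * t) y = nn s y * nn t y := by
  rw [nn_apply, MulAut.mul_apply, app t, map_mul, h.fix s hs _ (h.le (h.com t ht y)), ← mul_assoc, ← nn_apply]

theorem nn_zpow {s : MulAut V} (hs : s ∈ T) (y : V) (i : ℤ) : nn (s ^ i) y = nn s y ^ i :=
  map_zpow (MonoidHom.mk' (fun t : T => nn (t : MulAut V) y) fun s t => h.nn_mul s.2 t.2 y) ⟨s, hs⟩ i

variable [Finite V]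

theorem step {σ : MulAut V} (hc : (orderOf σ).Coprime 3) {A B : Subgroup V} {hAB : A ≤ B}
    (hσ : σ ∈ trivOn A B hAB) (hA : ∀ y ∈ A, σ y = y) : ∀ y ∈ B, σ y = y := fun y hy =>
  PG.aut_apply_eq_of_fix σ hc (hA _ (hσ y hy)) (k := 1) (by rw [pow_one, h.exp])

theorem memT {σ : MulAut V} (hσ : σ ∈ G) (h1 : ∀ c ∈ C, σ c = c) (h2 : ∀ y, nn σ y ∈ C) : σ ∈ T := by
  have : Fact (Nat.Prime 3) := ⟨Nat.prime_three⟩
  have e := h.syl.eq_of_le (C := G ⊓ (trivOn ⊥ C bot_le ⊓ trivOn C ⊤ le_top)) inf_le_left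
    (isPGroup_of_le_trivOn h.pg le_rfl (inf_le_right.trans inf_le_left)
      (fun σ hσ y hy => by rw [mem_bot.1 (hσ.2.1 y hy)]; exact one_mem _) (inf_le_right.trans inf_le_right))
    fun t ht => ⟨h.syl.le ht, fun y hy => h.n1 ht hy, fun y _ => h.le (h.com t ht y)⟩
  exact e ▸ ⟨hσ, fun y hy => nn_eq_one.2 (h1 y hy), fun y _ => h2 y⟩

theorem norm_of_st : G ⊓ St Z C ≤ normalizer (T : Set (MulAut V)) :=
  le_normalizer_of_conj_mem fun t ht k hk => h.memT (G.mul_mem (G.mul_mem hk.1 (h.syl.le ht)) (G.inv_mem hk.1))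
    (fun c hc => nn_eq_one.1 (by rw [nn_conj, h.n1 ht ((((St Z C).inv_mem hk.2).2 c).2 hc), map_one]))
    fun y => by rw [nn_conj]; exact (hk.2.2 _).2 (h.le (h.com t ht _))

/-- the dichotomy -/
theorem dich {k : MulAut V} (hk : k ∈ G) {u : V} (hu : u ∈ Z) (h1 : u ≠ 1) (hC : k u ∈ C) : k ∈ St Z C := by
  have : Fact (Nat.Prime 3) := ⟨Nat.prime_three⟩
  obtain ⟨e, he, hs⟩ := h.basis hu h1
  obtain ⟨s, hsT, hs1⟩ := h.exists_ne
  obtain ⟨z, hz, hz1, hzu⟩ : ∃ z ∈ Z, z ≠ 1 ∧ nn s (k⁻¹ z) ∈ zpowers u := by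
    obtain ⟨i, j, e1⟩ := hs _ (h.com s hsT (k⁻¹ a))
    obtain ⟨i', j', e2⟩ := hs _ (h.com s hsT (k⁻¹ b))
    by_cases hj : (j : ZMod 3) = 0
    · refine ⟨a, h.ha, h.a_ne, i, ?_⟩
      rw [e1, zp (h.exp e) (m := j) (n := 0) (by simpa using hj), zpow_zero, mul_one]
    · refine ⟨a ^ j' * b ^ (-j), Z.mul_mem (Z.zpow_mem h.ha _) (Z.zpow_mem h.hb _),
        fun e3 => hj (by simpa using (h.ind _ _ e3).2), i * j' - i' * j, ?_⟩
      rw [map_mul, map_mul, map_zpow, map_zpow, map_zpow, map_zpow, e1, e2, mul_zpow, mul_zpow, mul_mul_mul_comm]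
      simp only [← zpow_mul, ← zpow_add]
      rw [show j * j' + j' * -j = 0 by ring, zpow_zero, mul_one]
      congr 1; ring
  obtain ⟨t, ht, ht1, hte⟩ : ∃ t ∈ T, t ≠ 1 ∧ nn t (k e) ∈ zpowers z := by
    by_cases hke : k e ∈ C
    · exact ⟨s, hsT, hs1, h.n1 hsT hke ▸ one_mem _⟩
    · obtain ⟨t, ht, e1⟩ := h.onT _ hke z hz
      exact ⟨t, ht, fun e2 => hz1 (by rw [← e1, e2]; simp [nn_apply]), e1 ▸ mem_zpowers _⟩
  set Z' := Z.map k.toMonoidHom with hZ'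
  have a1 : ∀ y ∈ Z', nn t y ∈ zpowers z := by
    rintro _ ⟨y, hy, rfl⟩
    obtain ⟨i, j, rfl⟩ := hs y hy
    simp only [map_mul, map_zpow, MulEquiv.coe_toMonoidHom, h.n1 ht hC, one_zpow, one_mul]
    exact zpow_mem hte _
  have a2 : ∀ y ∈ Z', nn (k * s * k⁻¹) y = 1 := by
    rintro _ ⟨y, hy, rfl⟩
    rw [nn_conj, MulEquiv.coe_toMonoidHom, MulAut.inv_apply_self, h.n1 hsT (h.le hy), map_one]
  have a3 : ∀ y, nn (k * s * k⁻¹) y ∈ Z' := fun y => by rw [nn_conj]; exact ⟨_, h.com s hsT _, rfl⟩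
  have a4 : nn (k * s * k⁻¹) z ∈ zpowers (k u) := by
    obtain ⟨i, e1⟩ := hzu
    exact ⟨i, by rw [nn_conj, ← e1]; simp⟩
  have ku : k u ∈ Z' := ⟨u, hu, rfl⟩
  have hz' : nn t z = 1 := h.n1 ht (h.le hz)
  have tr : ∀ {A B : Subgroup V} (hAB : A ≤ B), B ≤ A.comap (nn t) → B ≤ A.comap (nn (k * s * k⁻¹)) →
      closure {t, k * s * k⁻¹} ≤ trivOn A B hAB := fun hAB h2 h3 => by
    rw [closure_le, Set.insert_subset_iff, Set.singleton_subset_iff]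
    exact ⟨fun y hy => h2 hy, fun y hy => h3 hy⟩
  have c1 := tr (A := ⊥) (B := zpowers (k u)) bot_le (zpowers_le.2 (h.n1 ht hC)) (zpowers_le.2 (a2 _ ku))
  have c2 := tr (A := zpowers (k u)) (B := zpowers z ⊔ zpowers (k u)) le_sup_right
    (sup_le (zpowers_le.2 (by rw [mem_comap, hz']; exact one_mem _))
      (zpowers_le.2 (by rw [mem_comap, h.n1 ht hC]; exact one_mem _)))
    (sup_le (zpowers_le.2 a4) (zpowers_le.2 (by rw [mem_comap, a2 _ ku]; exact one_mem _)))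
  have c3 := tr (A := zpowers z ⊔ zpowers (k u)) (B := zpowers z ⊔ Z') (sup_le_sup_left (zpowers_le.2 ku) _)
    (sup_le (zpowers_le.2 (by rw [mem_comap, hz']; exact one_mem _)) fun y hy => mem_sup_left (a1 y hy))
    (sup_le (zpowers_le.2 (mem_sup_right a4)) fun y hy => by rw [mem_comap, a2 _ hy]; exact one_mem _)
  have c4 := tr (A := zpowers z ⊔ Z') (B := Z ⊔ Z') (sup_le_sup_right (zpowers_le.2 hz) _)
    (sup_le (fun y hy => by rw [mem_comap, h.n1 ht (h.le hy)]; exact one_mem _) fun y hy => mem_sup_left (a1 y hy))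
    fun y _ => mem_sup_right (a3 y)
  have c5 := tr (A := Z ⊔ Z') (B := ⊤) le_top (fun y _ => mem_sup_left (h.com t ht y))
    fun y _ => mem_sup_right (a3 y)
  have hp : IsPGroup 3 (closure ({t, k * s * k⁻¹} : Set (MulAut V))) :=
    isPGroup_of_forall_coprime fun σ hσ hc => MulEquiv.ext fun y =>
      h.step hc (c5 hσ) (h.step hc (c4 hσ) (h.step hc (c3 hσ) (h.step hc (c2 hσ) (h.step hc (c1 hσ)
        fun y hy => by rw [mem_bot.1 hy, map_one])))) y trivial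
  obtain ⟨m, -, hm⟩ := h.syl.exists_conj_le (C := closure {t, k * s * k⁻¹}) (by
    rw [closure_le, Set.insert_subset_iff, Set.singleton_subset_iff]
    exact ⟨h.syl.le ht, G.mul_mem (G.mul_mem hk (h.syl.le hsT)) (G.inv_mem hk)⟩) hp
  have b1 := h.st_of_conj ht ht1 (hm t (subset_closure (by simp)))
  have b2 := h.st_of_conj (k := m * k) hsT hs1 (by
    have := hm (k * s * k⁻¹) (subset_closure (by simp))
    simpa [mul_assoc] using this)
  simpa using (St Z C).mul_mem ((St Z C).inv_mem b1) b2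

variable {l : MulAut V} (hl : l ∈ G) (hn : l ∉ St Z C)
include hl hn

theorem eq_one {z : V} (hz : z ∈ Z) (e : l z ∈ C) : z = 1 := by_contra fun h1 => hn (h.dich hl hz h1 e)

theorem inj {s : MulAut V} (hs : s ∈ T) (h1 : s ≠ 1) {x y : V} (hx : x ∈ Z) (hy : y ∈ Z)
    (e : nn s (l x) = nn s (l y)) : x = y :=
  mul_inv_eq_one.1 (h.eq_one hl hn (Z.mul_mem hx (Z.inv_mem hy)) ((h.memC hs h1 _).2 (nn_eq_one.1 (by
    rw [map_mul, map_mul, map_inv, map_inv, e, mul_inv_cancel]))))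

theorem decomp (y : V) : ∃ c ∈ C, ∃ z ∈ Z, y = c * l z := by
  obtain ⟨s, hs, h1⟩ := h.exists_ne
  have hi : Function.Injective fun z : Z => (⟨nn s (l z), h.com s hs _⟩ : Z) := fun x y e =>
    Subtype.ext (h.inj hl hn hs h1 x.2 y.2 (congrArg Subtype.val e))
  obtain ⟨z, e⟩ := Finite.surjective_of_injective hi ⟨nn s y, h.com s hs y⟩
  have e : nn s (l z) = nn s y := congrArg Subtype.val e
  exact ⟨y * (l z)⁻¹, (h.memC hs h1 _).2 (nn_eq_one.1 (by rw [map_mul, map_inv, e, mul_inv_cancel])), z, z.2, by simp⟩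

theorem swap {s : MulAut V} (hs : s ∈ T) (h1 : s ≠ 1) :
    ∃ t ∈ T, l * t * l⁻¹ * s * l ∈ St Z C ∧ ∀ z ∈ Z, (l * t * l⁻¹ * s * l) z = nn s (l z) := by
  have hn' : l⁻¹ ∉ St Z C := fun e => hn (by simpa using (St Z C).inv_mem e)
  have key : ∀ t ∈ T, ∀ z ∈ Z, (l * t * l⁻¹ * s * l) z = nn s (l z) * l (z * nn t (l⁻¹ (nn s (l z)))) := by
    intro t ht z hz
    rw [MulAut.mul_apply, MulAut.mul_apply, app (l * t * l⁻¹), nn_conj, app s (l z), map_mul, map_mul,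
      MulAut.inv_apply_self, h.n1 ht (h.le hz), one_mul, map_mul, mul_comm (l z), mul_assoc]
  have h2 : nn s (l a) ≠ 1 := fun e => h.a_ne (h.eq_one hl hn h.ha ((h.memC hs h1 _).2 (nn_eq_one.1 e)))
  obtain ⟨t, ht, e⟩ := h.onT (l⁻¹ (nn s (l a))) (fun e => h2 (h.eq_one (G.inv_mem hl) hn' (h.com s hs _) e)) a⁻¹
    (Z.inv_mem h.ha)
  have h3 : l * t * l⁻¹ * s * l ∈ St Z C :=
    h.dich (G.mul_mem (G.mul_mem (G.mul_mem (G.mul_mem hl (h.syl.le ht)) (G.inv_mem hl)) (h.syl.le hs)) hl) h.ha h.a_ne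
      (by rw [key t ht a h.ha, e, mul_inv_cancel, map_one, mul_one]; exact h.le (h.com s hs _))
  refine ⟨t, ht, h3, fun z hz => ?_⟩
  have h4 := (h3.1 z).2 hz
  rw [key t ht z hz] at h4 ⊢
  rw [h.eq_one hl hn (Z.mul_mem hz (h.com t ht _)) (h.le ((Z.mul_mem_cancel_left (h.com s hs _)).1 h4)), map_one,
    mul_one]

theorem tor {s s' : MulAut V} (hs : s ∈ T) (h1 : s ≠ 1) (hs' : s' ∈ T) (h1' : s' ≠ 1) :
    ∃ w ∈ G ⊓ St Z C, (∀ N : Subgroup (MulAut V), T ≤ N → G ≤ normalizer (N : Set (MulAut V)) → w ∈ N) ∧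
      ∀ z ∈ Z, nn s (l (w z)) = nn s' (l z) := by
  obtain ⟨t, ht, e1, e2⟩ := h.swap hl hn hs h1
  obtain ⟨t', ht', e1', e2'⟩ := h.swap hl hn hs' h1'
  have hw := (St Z C).mul_mem ((St Z C).inv_mem e1) e1'
  have hG : ∀ {t s}, t ∈ T → s ∈ T → l * t * l⁻¹ * s * l ∈ G := fun ht hs =>
    G.mul_mem (G.mul_mem (G.mul_mem (G.mul_mem hl (h.syl.le ht)) (G.inv_mem hl)) (h.syl.le hs)) hl
  refine ⟨_, ⟨G.mul_mem (G.inv_mem (hG ht hs)) (hG ht' hs'), hw⟩, fun N hT hN => ?_, fun z hz => ?_⟩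
  · have c : ∀ {s}, s ∈ T → l⁻¹ * s * l⁻¹⁻¹ ∈ N := fun hs => (mem_normalizer_iff.1 (hN (G.inv_mem hl)) _).1 (hT hs)
    have := N.mul_mem (N.mul_mem (N.mul_mem (N.inv_mem (c hs)) (N.inv_mem (hT ht))) (hT ht')) (c hs')
    convert this using 1; group
  · rw [← e2 _ ((hw.1 z).2 hz), ← e2' z hz, ← MulAut.mul_apply, mul_inv_cancel_left]

theorem main : ∃ w ∈ G ⊓ St Z C, (∀ N : Subgroup (MulAut V), T ≤ N → G ≤ normalizer (N : Set (MulAut V)) → w ∈ N) ∧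
    (∃ p q r s : ℤ, w a = a ^ p * b ^ r ∧ w b = a ^ q * b ^ s ∧ ((p * s - q * r : ℤ) : ZMod 3) = -1) ∧
      ∀ i : ℤ, w a ≠ a ^ i := by
  have hla : l a ∉ C := fun e => h.a_ne (h.eq_one hl hn h.ha e)
  obtain ⟨s, hs, es⟩ := h.onT _ hla a h.ha
  obtain ⟨s', hs', es'⟩ := h.onT _ hla b h.hb
  have hne : ∀ i : ℤ, s' ≠ s ^ i := fun i e => by
    rw [e, h.nn_zpow hs, es] at es'
    have := (h.ind i (-1) (by rw [es']; simp)).2
    revert this; decide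
  have h1 : s ≠ 1 := fun e => h.a_ne (by rw [← es, e]; simp [nn_apply])
  obtain ⟨w, hw, hN, e⟩ := h.tor hl hn hs h1 hs' (by simpa using hne 0)
  obtain ⟨w', hw', hN', e'⟩ := h.tor hl hn hs h1 (T.mul_mem hs hs')
    (fun e => hne (-1) (by rw [zpow_neg_one]; exact eq_inv_of_mul_eq_one_right e))
  have hZ : ∀ z ∈ Z, w z ∈ Z := fun z hz => (hw.2.1 z).2 hz
  have e2 : ∀ z ∈ Z, w' z = z * w z := fun z hz => h.inj hl hn hs h1 ((hw'.2.1 z).2 hz) (Z.mul_mem hz (hZ z hz)) (by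
    rw [e' z hz, h.nn_mul hs hs', map_mul, map_mul, e z hz])
  have ne : ∀ z ∈ Z, z ≠ 1 → ∀ i : ℤ, w z ≠ z ^ i := fun z hz hz1 i e3 => by
    have e4 := e z hz
    rw [e3, map_zpow, map_zpow, ← h.nn_zpow hs, nn_apply, nn_apply, mul_right_inj] at e4
    refine hne i (inv_mul_eq_one.1 (h.free _ (T.mul_mem (T.inv_mem hs') (T.zpow_mem hs i)) (l z)
      (fun e5 => hz1 (h.eq_one hl hn hz e5)) ?_))
    rw [MulAut.mul_apply, e4, MulAut.inv_apply_self]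
  obtain ⟨p, r, ea⟩ := h.span _ (hZ a h.ha)
  obtain ⟨q, t, eb⟩ := h.span _ (hZ b h.hb)
  rcases dec2 p q r t with (d | d) | ⟨i, j, m, d1, d2, d3⟩
  · exact ⟨w, hw, hN, ⟨p, q, r, t, ea, eb, by push_cast; exact d⟩, ne a h.ha h.a_ne⟩
  · refine ⟨w', hw', hN', ⟨p + 1, q, r, t + 1, ?_, ?_, by push_cast; exact d⟩, fun i e3 => ne a h.ha h.a_ne (i - 1) ?_⟩
    · rw [e2 a h.ha, ea, zpow_add_one, ← mul_assoc, mul_comm a]
    · rw [e2 b h.hb, eb, zpow_add_one, mul_comm b, mul_assoc]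
    · rw [e2 a h.ha] at e3
      rw [zpow_sub_one, ← e3, mul_right_comm, mul_inv_cancel, one_mul]
  · obtain ⟨i, rfl⟩ := ZMod.intCast_surjective i
    obtain ⟨j, rfl⟩ := ZMod.intCast_surjective j
    obtain ⟨m, rfl⟩ := ZMod.intCast_surjective m
    refine absurd ?_ (ne _ (Z.mul_mem (Z.zpow_mem h.ha i) (Z.zpow_mem h.hb j)) (fun e3 => d1 (h.ind _ _ e3)) m)
    rw [map_mul, map_zpow, map_zpow, ea, eb, mul_zpow, mul_zpow, mul_zpow, mul_mul_mul_comm]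
    simp only [← zpow_mul, ← zpow_add]
    rw [zp (h.exp a) (m := p * i + q * j) (n := i * m) (by push_cast; exact d2),
      zp (h.exp b) (m := r * i + t * j) (n := j * m) (by push_cast; exact d3)]

omit hl hn in
theorem exists_not : ∃ l ∈ G, l ∉ St Z C := by
  by_contra hn
  push Not at hn
  exact h.nrm fun k hk => h.norm_of_st ⟨hk, hn k hk⟩

end LD

end LA

namespace Sy
variable (Y : Sy P)

theorem cube {j : ℕ} (hj : j < 10) {x : P} (hx : x ∈ Y.G (j + 1)) : x ^ 3 ∈ Y.G j := by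
  have := Y.finite
  have := Y.normal hj.le
  have h1 := ((Y.G j).subgroupOf (Y.G (j + 1))).card_mul_index
  rw [Nat.card_congr (subgroupOfEquivOfLe (Y.mono j hj)).toEquiv, Y.card _ hj.le, Y.card _ hj, pow_succ] at h1
  have h2 := ((Y.G j).subgroupOf (Y.G (j + 1))).pow_index_mem ⟨x, hx⟩
  rw [Nat.eq_of_mul_eq_mul_left (by positivity) h1] at h2
  exact h2

/-- every element of `G (j + 1)` is a power of `g j` modulo `G j` -/
theorem dec {j : ℕ} (hj : j < 10) {x : P} (hx : x ∈ Y.G (j + 1)) : ∃ c ∈ Y.G j, ∃ i : ℤ, x = c * Y.g j ^ i := by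
  have := Y.normal hj.le
  obtain ⟨c, hc, _, ⟨i, rfl⟩, e⟩ := mem_sup_of_normal_left.1 (Y.step hj (R := Y.G j ⊔ zpowers (Y.g j)) le_sup_left
    (Y.mem j hj) (Y.notMem j hj) (mem_sup_right (mem_zpowers _)) hx)
  exact ⟨c, hc, i, e.symm⟩

theorem zero_of_mem {j : ℕ} (hj : j < 10) {i : ℤ} (h : Y.g j ^ i ∈ Y.G j) : (i : ZMod 3) = 0 := by
  have : Fact (Nat.Prime 3) := ⟨Nat.prime_three⟩
  by_contra hi
  exact Y.notMem j hj (mem_of_zpow_mem (Y.cube hj (Y.mem j hj)) h hi)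

theorem dec1 {x : P} (hx : x ∈ Y.G 1) : ∃ i : ℤ, x = Y.g 0 ^ i := by
  obtain ⟨c, hc, i, e⟩ := Y.dec (j := 0) (by norm_num) hx
  rw [Y.zero, mem_bot] at hc
  exact ⟨i, by rw [e, hc, one_mul]⟩

theorem dec2 {x : P} (hx : x ∈ Y.G 2) : ∃ i j : ℤ, x = Y.g 0 ^ i * Y.g 1 ^ j := by
  obtain ⟨c, hc, j, e⟩ := Y.dec (j := 1) (by norm_num) hx
  obtain ⟨i, rfl⟩ := Y.dec1 hc
  exact ⟨i, j, e⟩

theorem ind2 {i j : ℤ} (e : Y.g 0 ^ i * Y.g 1 ^ j = 1) : (i : ZMod 3) = 0 ∧ (j : ZMod 3) = 0 := by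
  have h0 := Y.mem 0 (by norm_num)
  have hj := Y.zero_of_mem (j := 1) (i := j) (by norm_num) (by
    rw [eq_inv_of_mul_eq_one_right e]; exact inv_mem (zpow_mem h0 _))
  obtain ⟨c, rfl⟩ := (ZMod.intCast_zmod_eq_zero_iff_dvd j 3).1 hj
  rw [zpow_mul, zpow_natCast, Y.exp5 _ (Y.le (by norm_num) (by norm_num) (Y.mem 1 (by norm_num))), one_zpow,
    mul_one] at e
  exact ⟨Y.zero_of_mem (j := 0) (by norm_num) (e ▸ one_mem _), hj⟩

end Sy

/-- STUB `T3/LA` (linear algebra over `F₃`, ~250 lines; `have := Y.finite`, `Y.pg`).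
Write `G = Aut_F(E)`, `T = autInducedBy ⊤ E` (Sylow in `G`: `sylIn_of_fullyNormalized`; NOT normal in `G`:
`not_le_normalizer_of_essential`), `Z = G 2` (order 9, basis `g 0, g 1`), `C = E ⊓ G 5` (order 27, index 9 in `E`).
By `h.norm`, `h.comm` every `t ∈ T` is conjugation by some `v ∈ G 5`; `t` fixes `C` (`c55`), `y⁻¹ t y ∈ Z` (`c95`), and if
`t` fixes some `y ∈ E \ C` then `t = 1` (`free`).  `|T| = |G 5 : C| = 9`.  So for `t ≠ 1` the map `y ↦ y⁻¹ t y` is a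
bijection `E / C → Z` (fix set of `t` is exactly `C`, `[E, t] = Z`) and for `y ∉ C` the map `t ↦ y⁻¹ t y` is a
bijection (hom) `T → Z`.
DICHOTOMY: for `k ∈ G` either (`k Z = Z` and `k C = C`) or `k Z ⊓ C = 1`.  Proof: let `1 ≠ u' ∈ kZ ⊓ C`; additive notation,
`t = 1 + n_t`, `t' = k t₀ k⁻¹ = 1 + n'` (`t₀ ≠ 1` fixed), `n_t : E → Z` with kernel `C`, `n' : E → kZ` with kernel `kC`.
Let `Z' = kZ = ⟨u', e'⟩`.  Choose `z ≠ 0` in `Z` with `n' z ∈ ⟨u'⟩` (`Z → Z' / ⟨u'⟩` has a kernel) and `t ≠ 1` in `T` with `n_t e' ∈ ⟨z⟩`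
(`e' ∈ C`: any `t ≠ 1`; else `t ↦ n_t e'` is onto `Z`).  Then `n_t, n'` map each term of `E ≥ Z + Z' ≥ ⟨z⟩ + Z' ≥ ⟨z, u'⟩ ≥ ⟨u'⟩ ≥ 0` into the
next one, so `⟨t, t'⟩` is a 3-group (`mem_pCore_of_chain` with `G = ⟨t, t'⟩`).  By Sylow
(`SylIn.exists_conj_le`) `t, t' ∈ m T m⁻¹`, so `Z = [E, t] = mZ = [E, t'] = kZ` and `C = Fix t = mC = kC`.
If all `k ∈ G` fix `Z` and `C`, then `T ⊔ kTk⁻¹` stabilizes `1 ≤ C ≤ E`, is a 3-group, so `T` is normal: excluded.  So pick `k`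
with `Z' = kZ`, `Z' ⊓ C = 1`, hence `E = C Z'` (last claim), and by symmetry (`k⁻¹`) `Z ⊓ kC = 1`, `C = D × Z`, `D = C ⊓ kC`.
On `Z ⊕ Z'`: `t = [[1, A], [0, 1]]` (`A ∈ 𝒜 ≅ T`, `A : Z' → Z`), `t' = [[1, 0], [B, 1]]` (`B ∈ ℬ ≅ kTk⁻¹`), all nonzero `A, B`
invertible, `𝒜, ℬ` closed under addition.  For `B ≠ 0`: `B⁻¹ ∈ 𝒜`: pick `z ≠ 0`, `A` with `A B z = z`; the conjugates
`t_A⁻¹ t'_B Z = {(z - ABz, Bz)}` and `Z'` meet nontrivially, so by the dichotomy (applied to `k⁻¹ t_A⁻¹ t'_B`) they are equal: `AB = 1`.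
`w_B = t_{-B⁻¹} t'_B t_{-B⁻¹}` swaps `Z, Z'` and fixes `D`; `w = w_B w_{B'}⁻¹ = diag (B⁻¹B', …)` (up to order/inverse) fixes `Z`, `C`,
so normalizes `T` (`T ⊔ wTw⁻¹` is a 3-group as above) and lies in every normal subgroup containing `T`.  For `B' ∉ {0, ±B}` the
matrix `Q = B⁻¹B'` has no eigenvalue in `F₃` (`B' - λB` invertible); if `det Q = 1` replace `B'` by `B + B'` (`det (Q + 1) = -1`;
`decide` on 2×2 matrices mod 3).  No eigenvector gives `w (g 0) ∉ G 1`. -/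
theorem Sy.la (Y : Sy P) {F : FusionSystem (⊤ : Subgroup P)} (hF : F.IsSaturated 3) {E : Subgroup P}
    (hE : F.IsEssential 3 E) (h : Y.Th3 E) :
    (∃ w, Tor F E w ∧ Det (Y.g 0) (Y.g 1) (autFun w) (-1) ∧ autFun w (Y.g 0) ∉ Y.G 1) ∧
      ∃ k ∈ F.autGroup E, ∀ y ∈ E, ∃ c ∈ Y.G 5, ∃ z ∈ Y.G 2, y = c * autFun k z := by
  have := Y.finite
  have : Fact (Nat.Prime 3) := ⟨Nat.prime_three⟩
  have n5 := Y.normal (j := 5) (by norm_num)
  let _ : CommGroup E := { (inferInstance : Group E) with mul_comm := fun x y => Subtype.ext (h.comm x x.2 y y.2) }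
  have l25 : Y.G 2 ≤ Y.G 5 := Y.le (by norm_num) (by norm_num)
  have g0 : Y.g 0 ∈ Y.G 2 := Y.mono 1 (by norm_num) (Y.mem 0 (by norm_num))
  have g1 : Y.g 1 ∈ Y.G 2 := Y.mem 1 (by norm_num)
  have hT : ∀ t ∈ autInducedBy ⊤ E, ∃ v ∈ Y.G 5, ∀ y : E, (t y : P) = v * y * v⁻¹ := fun t ht => by
    obtain ⟨g, -, hg, rfl⟩ := mem_autInducedBy_iff_cjAut.1 ht
    have hg' := hg
    rw [h.norm] at hg'
    obtain ⟨e, he, v, hv, rfl⟩ := mem_sup_of_normal_right.1 hg'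
    refine ⟨v, hv, fun y => ?_⟩
    have h1 : v * y * v⁻¹ ∈ E := (mem_normalizer_iff.1 (h.norm ▸ mem_sup_right hv) _).1 y.2
    rw [cjAut_apply, cj, show e * v * y * (e * v)⁻¹ = e * (v * y * v⁻¹) * e⁻¹ by group, h.comm e he _ h1,
      mul_inv_cancel_right]
  have hc : ∀ y ∈ E, ∀ v ∈ Y.G 5, y⁻¹ * (v * y * v⁻¹) ∈ Y.G 2 := fun y hy v hv => by
    have := Y.c95 y (h.le hy) v⁻¹ (inv_mem hv)
    rwa [cm, inv_inv, mul_assoc, mul_assoc, ← mul_assoc v] at this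
  have cC : Nat.card ((Y.G 5).subgroupOf E) = 3 ^ 3 := by
    rw [← h.cardC, ← inf_subgroupOf_left]
    exact Nat.card_congr (subgroupOfEquivOfLe inf_le_left).toEquiv
  have cZ : Nat.card ((Y.G 2).subgroupOf E) = 3 ^ 2 := by
    rw [← Y.card 2 (by norm_num)]
    exact Nat.card_congr (subgroupOfEquivOfLe h.ge).toEquiv
  have fr : ∀ t ∈ autInducedBy ⊤ E, ∀ y : E, y ∉ (Y.G 5).subgroupOf E → t y = y → t = 1 := fun t ht y hy e => by
    obtain ⟨v, hv, e1⟩ := hT t ht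
    have hvE := h.free v hv y y.2 hy (by rw [← mul_inv_eq_iff_eq_mul, ← e1, e])
    exact MulEquiv.ext fun x => Subtype.ext (by rw [e1, h.comm v hvE x x.2, mul_inv_cancel_right]; rfl)
  have cm2 : ∀ t ∈ autInducedBy ⊤ E, ∀ y : E, LA.nn t y ∈ (Y.G 2).subgroupOf E := fun t ht y => by
    obtain ⟨v, hv, e1⟩ := hT t ht
    rw [mem_subgroupOf, LA.nn_apply, coe_mul, coe_inv, e1]
    exact hc y y.2 v hv
  have D : LA.LD (F.autGroup E) (autInducedBy ⊤ E) ((Y.G 2).subgroupOf E) ((Y.G 5).subgroupOf E)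
      ⟨Y.g 0, h.ge g0⟩ ⟨Y.g 1, h.ge g1⟩ :=
    { syl := sylIn_of_fullyNormalized Y.pg hF hE.2.1
      exp := fun x => Subtype.ext (h.exp x x.2)
      le := fun _ hx => l25 hx
      ha := g0
      hb := g1
      span := fun z hz => by
        obtain ⟨i, j, e⟩ := Y.dec2 hz
        exact ⟨i, j, Subtype.ext e⟩
      ind := fun i j e => Y.ind2 (congrArg Subtype.val e)
      fix := fun t ht c hc => Subtype.ext (by
        obtain ⟨v, hv, e1⟩ := hT t ht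
        rw [e1, Y.c55 v hv c hc, mul_inv_cancel_right])
      com := cm2
      free := fr
      onT := fun y hy z hz => by
        let f : Y.G 5 →* P := MonoidHom.mk' (fun v => (y : P)⁻¹ * (v * y * (v : P)⁻¹)) fun v w => by
          have h1 := Y.c55 _ (l25 (hc y y.2 w w.2)) _ (inv_mem v.2)
          rw [coe_mul, mul_assoc (y : P)⁻¹, mul_assoc _ (v : P)⁻¹, ← h1]; group
        obtain ⟨v, e⟩ := LA.le_range f (K := E.subgroupOf (Y.G 5)) (R := Y.G 2)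
          (fun v hv => h.free v v.2 y y.2 hy (by
            have : (y : P)⁻¹ * (v * y * (v : P)⁻¹) = 1 := hv
            rw [inv_mul_eq_one, eq_mul_inv_iff_mul_eq] at this
            exact this.symm))
          (by rintro _ ⟨v, rfl⟩; exact hc y y.2 v v.2) (by
            rw [← inf_subgroupOf_right, Nat.card_congr (subgroupOfEquivOfLe inf_le_right).toEquiv, h.cardC,
              Y.card 5 (by norm_num), Y.card 2 (by norm_num)]; norm_num) hz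
        have hv : (v : P) ∈ normalizer (E : Set P) := h.norm ▸ mem_sup_right v.2
        exact ⟨cjAut E v hv, cjAut_mem_autInducedBy (mem_top _) hv, Subtype.ext e⟩
      onV := fun t ht h1 z hz => LA.le_range (LA.nn t) (K := (Y.G 5).subgroupOf E)
        (fun y hy => by_contra fun hy' => h1 (fr t ht y hy' (LA.nn_eq_one.1 hy)))
        (by rintro _ ⟨y, rfl⟩; exact cm2 t ht y) (by rw [cC, cZ, h.card]; norm_num) hz
      nrm := not_le_normalizer_of_essential Y.pg hF hE }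
  obtain ⟨l, hl, hn⟩ := D.exists_not
  obtain ⟨w, hw, hN, ⟨p, q, r, s, ea, eb, d⟩, ne⟩ := D.main hl hn
  refine ⟨⟨w, ⟨hw.1, hN, D.norm_of_st hw⟩, ⟨p, q, r, s, ?_, ?_, d⟩, fun e => ?_⟩, l, hl, fun y hy => ?_⟩
  · rw [autFun_of_mem w (h.ge g0), ea]; rfl
  · rw [autFun_of_mem w (h.ge g1), eb]; rfl
  · obtain ⟨i, e⟩ := Y.dec1 e
    rw [autFun_of_mem w (h.ge g0)] at e
    exact ne i (Subtype.ext e)
  · obtain ⟨c, hc, z, hz, e⟩ := D.decomp hl hn ⟨y, hy⟩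
    exact ⟨c, hc, z, hz, by rw [autFun_coe]; exact congrArg Subtype.val e⟩

end CL.T3
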