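/- S5228: determinants on the plane `G 2`. -/
import Cfsg.Agent.FUS.T3.LA
set_option autoImplicit false

namespace CL.T3
open Cfsg Cfsg.FusionSystem CL.Fus Subgroup

variable {P : Type*} [Group P]

namespace Dt

/-- `f` acts on `G 2` by the matrix `M` -/
def Ac (Y : Sy P) (f : P → P) (M : Matrix (Fin 2) (Fin 2) (ZMod 3)) : Prop :=
  ∃ a b c d : ℤ, f (Y.g 0) = Y.g 0 ^ a * Y.g 1 ^ c ∧ f (Y.g 1) = Y.g 0 ^ b * Y.g 1 ^ d ∧
    M = !![(a : ZMod 3), (b : ZMod 3); (c : ZMod 3), (d : ZMod 3)]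

variable {Y : Sy P} {R : Subgroup P} {f : P → P} {M M' : Matrix (Fin 2) (Fin 2) (ZMod 3)} {σ τ : MulAut R}

theorem m0 (Y : Sy P) : Y.g 0 ∈ Y.G 2 := Y.mono 1 (by norm_num) (Y.mem 0 (by norm_num))
theorem m1 (Y : Sy P) : Y.g 1 ∈ Y.G 2 := Y.mem 1 (by norm_num)

theorem c0 (Y : Sy P) (s : P) : Commute (Y.g 0) s := by
  have := Y.cent 0 (by norm_num) _ (Y.mem 0 (by norm_num)) s
  rw [Y.zero, mem_bot] at this
  show Y.g 0 * s = s * Y.g 0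
  rw [← mul_one (s * Y.g 0), ← this, cm]; group

theorem det_iff {ε : ZMod 3} : Det (Y.g 0) (Y.g 1) f ε ↔ ∃ M, Ac Y f M ∧ M.det = ε :=
  ⟨fun ⟨a, b, c, d, h0, h1, e⟩ => ⟨_, ⟨a, b, c, d, h0, h1, rfl⟩, by rw [Matrix.det_fin_two_of, ← e]; push_cast; rfl⟩, by
    rintro ⟨_, ⟨a, b, c, d, h0, h1, rfl⟩, e⟩
    exact ⟨a, b, c, d, h0, h1, by rw [← e, Matrix.det_fin_two_of]; push_cast; rfl⟩⟩

theorem Ac.congr {f' : P → P} (h : Ac Y f M) (e : Set.EqOn f' f (Y.G 2)) : Ac Y f' M := by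
  obtain ⟨a, b, c, d, h0, h1, rfl⟩ := h
  exact ⟨a, b, c, d, (e (m0 Y)).trans h0, (e (m1 Y)).trans h1, rfl⟩

theorem coord {a c a' c' : ℤ} (h : Y.g 0 ^ a * Y.g 1 ^ c = Y.g 0 ^ a' * Y.g 1 ^ c') :
    (a : ZMod 3) = a' ∧ (c : ZMod 3) = c' := by
  have := Y.ind2 (i := a - a') (j := c - c') (by
    rw [show Y.g 0 ^ (a - a') * Y.g 1 ^ (c - c') = (Y.g 0 ^ a')⁻¹ * (Y.g 0 ^ a * Y.g 1 ^ c) * (Y.g 1 ^ c')⁻¹ by group, h]
    group)
  push_cast at this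
  exact ⟨sub_eq_zero.1 this.1, sub_eq_zero.1 this.2⟩

theorem Ac.unique (h : Ac Y f M) (h' : Ac Y f M') : M = M' := by
  obtain ⟨a, b, c, d, h0, h1, rfl⟩ := h
  obtain ⟨a', b', c', d', h0', h1', rfl⟩ := h'
  have e0 := coord (h0.symm.trans h0')
  have e1 := coord (h1.symm.trans h1')
  rw [e0.1, e0.2, e1.1, e1.2]

theorem Ac.mul (h2 : Y.G 2 ≤ R) (h : Ac Y (autFun σ) M) (h' : Ac Y (autFun τ) M') :
    Ac Y (autFun (σ * τ)) (M * M') := by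
  obtain ⟨a, b, c, d, h0, h1, rfl⟩ := h
  obtain ⟨a', b', c', d', h0', h1', rfl⟩ := h'
  have r0 := h2 (m0 Y)
  have r1 := h2 (m1 Y)
  have k : ∀ m n : ℤ, autFun σ (Y.g 0 ^ m * Y.g 1 ^ n) = Y.g 0 ^ (a * m + b * n) * Y.g 1 ^ (c * m + d * n) :=
    fun m n => by
      rw [isHomOn_autFun σ (zpow_mem r0 m) (zpow_mem r1 n), (isHomOn_autFun σ).map_zpow r0,
        (isHomOn_autFun σ).map_zpow r1, h0, h1, ((c0 Y _).zpow_left a).mul_zpow, ((c0 Y _).zpow_left b).mul_zpow,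
        ← zpow_mul, ← zpow_mul, ← zpow_mul, ← zpow_mul, zpow_add, zpow_add,
        ((c0 Y _).zpow_left _).symm.mul_mul_mul_comm]
  refine ⟨_, _, _, _, by rw [autFun_mul _ _ r0, h0', k], by rw [autFun_mul _ _ r1, h1', k], ?_⟩
  rw [Matrix.mul_fin_two]
  push_cast
  rfl

theorem one (h2 : Y.G 2 ≤ R) : Ac Y (autFun (1 : MulAut R)) 1 :=
  ⟨1, 0, 0, 1, by simp [autFun_one (h2 (m0 Y))], by simp [autFun_one (h2 (m1 Y))], by
    rw [Matrix.one_fin_two]; simp⟩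

theorem Ac.pow (h2 : Y.G 2 ≤ R) (h : Ac Y (autFun σ) M) (n : ℕ) : Ac Y (autFun (σ ^ n)) (M ^ n) := by
  induction n with
  | zero => rw [pow_zero, pow_zero]; exact one h2
  | succ n ih => rw [pow_succ, pow_succ]; exact ih.mul h2 h

theorem Ac.inv (h2 : Y.G 2 ≤ R) (h : Ac Y (autFun σ) M) : ∃ M', Ac Y (autFun σ⁻¹) M' := by
  have := Y.finite
  exact ⟨_, (show σ ^ (orderOf σ - 1) = σ⁻¹ from eq_inv_of_mul_eq_one_left (by
    rw [← pow_succ, Nat.sub_add_cancel (orderOf_pos σ), pow_orderOf_eq_one])) ▸ h.pow h2 _⟩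

theorem ac_cj (Y : Sy P) (s : P) : ∃ e : ZMod 3, Ac Y (cj s) !![1, e; 0, 1] ∧ (e = 0 → Commute s (Y.g 1)) := by
  obtain ⟨i, hi⟩ := Y.dec1 (Y.cent 1 (by norm_num) _ (m1 Y) s⁻¹)
  have h1 : cj s (Y.g 1) = Y.g 0 ^ i * Y.g 1 := by
    rw [((c0 Y _).zpow_left i).eq, ← hi, cm, cj]; group
  refine ⟨i, ⟨1, i, 0, 1, by simp [cj_eq_self_iff.2 (c0 Y s).symm.eq], by simp [h1], by simp⟩, fun e => ?_⟩
  obtain ⟨k, rfl⟩ := (ZMod.intCast_zmod_eq_zero_iff_dvd _ 3).1 e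
  rw [zpow_mul, zpow_natCast, Y.exp5 _ (Y.le (by norm_num) (by norm_num) (m0 Y)), one_zpow, one_mul] at h1
  exact cj_eq_self_iff.1 h1

theorem fin : ∀ a b c d : ZMod 3, a * d - b * c = -1 → ∀ e : ZMod 3, e ≠ 0 → ∀ p q r s : ZMod 3,
    !![p, q; r, s] * (!![1, e; 0, 1] * !![a, b; c, d]) = !![a, b; c, d] * !![1, e; 0, 1] →
      !![p, q; r, s] ^ 6 = 1 ∧ !![p, q; r, s] ^ 2 ≠ 1 := by decide +kernel

end Dt

open Dt in

/-- STUB `T3/Dt`, part 1 (~80 lines).  `A ≤ Aut(R)` has `Inn R` as a Sylow 3-subgroup and is normalized by `u = cjAut R (g 9)`.  `c = δ u δ⁻¹ u⁻¹ ∈ A`,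
some `c ^ m`, `3 ∤ m`, is a 3-element, so lies in `Inn R` (normal Sylow: `SylIn.le_of_le_normalizer'`), which fixes `G 2` pointwise (`c92`).  On
`G 2 = ⟨g 0, g 1⟩ ≅ 3²` the map `u` is `[[1, ±1], [0, 1]]` (`cent`, `n91`), and for `det δ = -1` the matrix of `c` has `c ^ 6 = 1`, `c ^ 2 ≠ 1`
(`decide` over 2×2 matrices mod 3; `CL.Fus.Act`), so `c ^ m ≠ 1` on `G 2`. -/
theorem Sy.no_det (Y : Sy P) {R : Subgroup P} (h2 : Y.G 2 ≤ R) (h9 : R ≤ Y.G 9) (hs : Y.g 9 ∈ normalizer (R : Set P))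
    {A : Subgroup (MulAut R)} (hA : SylIn 3 (Inn R) A) (hu : cjAut R (Y.g 9) hs ∈ normalizer (A : Set (MulAut R)))
    {δ : MulAut R} (hδ : δ ∈ A) (hd : Det (Y.g 0) (Y.g 1) (autFun δ) (-1)) : False := by
  have := Y.finite
  obtain ⟨M, hM, dM⟩ := det_iff.1 hd
  obtain ⟨e, hU, e0⟩ := ac_cj Y (Y.g 9)
  have e1 : e ≠ 0 := fun H => Y.n91 (by rw [cm, mul_assoc, (e0 H).eq]; group)
  replace hU := hU.congr fun x hx => autFun_cjAut hs (h2 hx)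
  generalize cjAut R (Y.g 9) hs = u at hu hU
  obtain ⟨M', hM'⟩ := hM.inv h2
  obtain ⟨U', hU'⟩ := hU.inv h2
  have hC := hM.mul h2 ((hU.mul h2 hM').mul h2 hU')
  have cA : δ * (u * δ⁻¹ * u⁻¹) ∈ A := mul_mem hδ ((mem_normalizer_iff.1 hu _).1 (A.inv_mem hδ))
  have e2 := (hC.mul h2 (hU.mul h2 hM)).unique (by
    rw [show δ * (u * δ⁻¹ * u⁻¹) * (u * δ) = δ * u by group]; exact hM.mul h2 hU)
  generalize δ * (u * δ⁻¹ * u⁻¹) = c, M * (!![1, e; 0, 1] * M' * U') = C at hC cA e2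
  rw [Matrix.eta_fin_two M, Matrix.det_fin_two_of] at dM
  rw [Matrix.eta_fin_two M, Matrix.eta_fin_two C] at e2
  have key := fin _ _ _ _ dM e e1 _ _ _ _ e2
  rw [← Matrix.eta_fin_two C] at key
  obtain ⟨k, m, hm, ho⟩ := Nat.exists_eq_pow_mul_and_not_dvd (orderOf_pos c).ne' 3 (by norm_num)
  obtain ⟨i, -, hi⟩ := (Nat.dvd_prime_pow Nat.prime_three).1 (orderOf_dvd_of_pow_eq_one (x := c ^ m) (n := 3 ^ k)
    (by rw [← pow_mul, mul_comm, ← ho, pow_orderOf_eq_one]))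
  obtain ⟨g, hg, eg⟩ := mem_inn_iff.1 (hA.le_of_le_normalizer' (zpowers_le.2 (pow_mem cA m))
    (IsPGroup.of_card ((Nat.card_zpowers _).trans hi)) (by rw [normalizer_eq_top]; exact le_top) (mem_zpowers _))
  have e3 : C ^ m = 1 := (hC.pow h2 m).unique ((one h2).congr fun x hx => by
    rw [eg (h2 hx), autFun_one (h2 hx), cj_eq_self_iff, Y.c92 g (h9 hg) x hx])
  have e4 := pow_gcd_eq_one.2 ⟨e3, key.1⟩
  refine key.2 ?_
  have : Nat.gcd m 6 ∣ 2 := (Nat.Coprime.coprime_dvd_left (Nat.gcd_dvd_left m 6)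
    ((Nat.Prime.coprime_iff_not_dvd Nat.prime_three).2 hm).symm).dvd_of_dvd_mul_right (Nat.gcd_dvd_right m 6)
  obtain ⟨j, hj⟩ := this
  exact (congrArg (C ^ ·) hj).trans (by rw [pow_mul, e4, one_pow])

open Dt in

/-- part 2 (~60 lines).  Every `σ ∈ A` acts on `G 2` (`ch92`) with a determinant `±1`, which is unique and multiplicative;
`K = {σ ∈ A | Det σ 1}` is a normal subgroup of `A` containing `T = autInducedBy ⊤ (G 9)` (`cj s` is unitriangular on `G 2`: `cent`);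
`SylIn.of_le`, `SylIn.frattini` give `c ∈ K` with `c δ ∈ N(T)`. -/
theorem Sy.det_norm (Y : Sy P) {A : Subgroup (MulAut (Y.G 9))} (hA : SylIn 3 (autInducedBy ⊤ (Y.G 9)) A)
    {δ : MulAut (Y.G 9)} (hδ : δ ∈ A) (hd : Det (Y.g 0) (Y.g 1) (autFun δ) (-1)) :
    ∃ ν ∈ A, ν ∈ normalizer ((autInducedBy ⊤ (Y.G 9) : Subgroup (MulAut (Y.G 9))) : Set (MulAut (Y.G 9))) ∧
      Det (Y.g 0) (Y.g 1) (autFun ν) (-1) := by
  have := Y.finite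
  have h2 : Y.G 2 ≤ Y.G 9 := Y.le (by norm_num) (by norm_num)
  have ex : ∀ σ : MulAut (Y.G 9), ∃ M, Ac Y (autFun σ) M := fun σ => by
    obtain ⟨a, c, h0⟩ := Y.dec2 (Y.ch92 σ trivial _ (h2 (m0 Y)) (m0 Y))
    obtain ⟨b, d, h1⟩ := Y.dec2 (Y.ch92 σ trivial _ (h2 (m1 Y)) (m1 Y))
    exact ⟨_, a, b, c, d, h0, h1, rfl⟩
  choose M hM using ex
  let μ : MulAut (Y.G 9) →* Matrix (Fin 2) (Fin 2) (ZMod 3) :=
    ⟨⟨M, (hM 1).unique (one h2)⟩, fun σ τ => (hM _).unique ((hM σ).mul h2 (hM τ))⟩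
  let dt := Matrix.detMonoidHom.comp μ
  have hT : autInducedBy ⊤ (Y.G 9) ≤ A ⊓ dt.ker := fun α hα => ⟨hA.le hα, by
    obtain ⟨g, -, e⟩ := mem_autInducedBy_iff.1 hα
    obtain ⟨x, hx, -⟩ := ac_cj Y g
    show (M α).det = 1
    rw [(hM α).unique (hx.congr fun y hy => e (h2 hy))]
    simp⟩
  obtain ⟨c, hc, hn⟩ := (hA.of_le hT inf_le_left).frattini (b := δ) (le_normalizer_of_conj_mem (A := A ⊓ dt.ker) (H := A)
    (fun a ha g hg => ⟨Fus.cj_mem hg ha.1, (inferInstance : dt.ker.Normal).conj_mem a ha.2 g⟩) hδ)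
  obtain ⟨N, hN, dN⟩ := det_iff.1 hd
  refine ⟨c * δ, mul_mem hc.1 hδ, hn, det_iff.2 ⟨_, (hM c).mul h2 hN, ?_⟩⟩
  rw [Matrix.det_mul, dN, show (M c).det = 1 from hc.2, one_mul]

end CL.T3
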