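/- S5228: invariant subgroups, and subgroups that are not essential. -/
import Cfsg.Agent.FUS.T3.Tr
import Cfsg.Agent.PLOC.PFrattini
set_option autoImplicit false
set_option linter.unusedVariables false

namespace CL.T3
open Cfsg CL.Fus CL.K Subgroup

variable {P : Type*} [Group P] {A B C U F x y z : ℕ → ℕ} {E X : Subgroup P} {H : Subgroup (MulAut E)}

namespace Inv

theorem cm_inv (a b : P) : (cm a b)⁻¹ = cm b a := by simp only [cm]; group

theorem cm_mem {a b : P} (ha : a ∈ E) (hb : b ∈ E) : cm a b ∈ E :=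
  mul_mem (mul_mem (mul_mem (inv_mem ha) (inv_mem hb)) ha) hb

theorem aut_cm (α : MulAut E) {a b : P} (ha : a ∈ E) (hb : b ∈ E) :
    autFun α (cm a b) = cm (autFun α a) (autFun α b) := by
  have h := isHomOn_autFun α
  rw [cm, h (mul_mem (mul_mem (inv_mem ha) (inv_mem hb)) ha) hb, h (mul_mem (inv_mem ha) (inv_mem hb)) ha,
    h (inv_mem ha) (inv_mem hb), h.map_inv ha, h.map_inv hb, cm]

theorem inv_closure {s : Set P} (hs : closure s ≤ E) (h : ∀ α ∈ H, ∀ a ∈ s, autFun α a ∈ s) : AutInv H (closure s) :=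
  fun α hα a _ ha => by
    have k := isHomOn_autFun α
    induction ha using closure_induction with
    | mem a ha => exact subset_closure (h α hα a ha)
    | one => rw [k.map_one]; exact one_mem _
    | mul a b ha hb i j => rw [k (hs ha) (hs hb)]; exact mul_mem (i (hs ha)) (j (hs hb))
    | inv a ha i => rw [k.map_inv (hs ha)]; exact inv_mem (i (hs ha))

end Inv

/-- STUB `T3/Inv` (~250 lines), part 1: `Ph`. -/
theorem Ph_le (E : Subgroup P) : Ph E ≤ E := by
  refine (closure_le _).2 ?_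
  rintro _ (⟨a, ha, b, hb, rfl⟩ | ⟨a, ha, rfl⟩)
  · exact Inv.cm_mem ha hb
  · exact pow_mem ha 3

theorem autInv_Ph (hX : X ≤ E) (h : AutInv H X) : AutInv H (Ph X) := by
  refine Inv.inv_closure ((Ph_le X).trans hX) fun α hα => ?_
  rintro _ (⟨a, ha, b, hb, rfl⟩ | ⟨a, ha, rfl⟩)
  · exact .inl ⟨_, h α hα a (hX ha) ha, _, h α hα b (hX hb) hb, (Inv.aut_cm α (hX ha) (hX hb)).symm⟩
  · exact .inr ⟨_, h α hα a (hX ha) ha, ((isHomOn_autFun α).map_pow (hX ha) 3).symm⟩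

/-- `CL.PG.frattini_le_iff` / `frattini_eq_sup` in `↥E` -/
theorem Ph_eq [Finite E] (hE : IsPGroup 3 E) : Ph E = (frattini E).map E.subtype := by
  refine le_antisymm ((closure_le _).2 ?_) ((PG.frattini_map_subtype_le_iff hE).2
    ⟨commutator_le.2 fun a ha b hb => subset_closure (.inl ⟨_, inv_mem ha, _, inv_mem hb, ?_⟩),
      fun a ha => subset_closure (.inr ⟨a, ha, rfl⟩)⟩)
  · rintro _ (⟨a, ha, b, hb, rfl⟩ | ⟨a, ha, rfl⟩)
    · simpa [commutatorElement_def, cm] using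
        PG.commutator_le_frattini_map hE (commutator_mem_commutator (inv_mem ha) (inv_mem hb))
    · exact PG.pow_mem_frattini_map hE ha
  · simp [commutatorElement_def, cm]

/-- an invariant subgroup is normalized by `s` if conjugation by `s` is in `H` (use `s` and `s⁻¹`) -/
theorem mem_normalizer_of_autInv (hX : X ≤ E) (h : AutInv H X) {s : P} (hs : s ∈ normalizer (E : Set P))
    (hH : cjAut E s hs ∈ H) : s ∈ normalizer (X : Set P) := by
  refine mem_normalizer_iff.2 fun a => ⟨fun ha => ?_, fun ha => ?_⟩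
  · exact (autFun_cjAut hs (hX ha) ▸ h _ hH a (hX ha) ha :)
  · have := h _ (inv_mem hH) _ (hX ha) ha
    rw [← cjAut_inv, autFun_cjAut _ (hX ha)] at this
    simpa [cj, mul_assoc] using this

theorem le_normalizer_of_autInv (hX : X ≤ E) (h : AutInv H X) (hH : Inn E ≤ H) : E ≤ normalizer (X : Set P) := by
  exact fun s hs => mem_normalizer_of_autInv hX h (le_normalizer hs)
    (hH (inn_eq_autInducedBy E ▸ cjAut_mem_autInducedBy hs _))

/-- part 2.  `CL.EssSm.rad_of_essential`, `Rad.mem_inn` with `A = B = X.subgroupOf E ⊔ frattini E` and `γ = cjAut E s⁻¹` (the `y` with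
`y⁻¹ γ y ∈ frattini E` form a subgroup: `eqLocus` of two maps to the quotient), `cjAut_mem_inn_iff`. -/
theorem not_essential_of_chain [Finite P] (hP : IsPGroup 3 (⊤ : Subgroup P)) {D : FusionSystem (⊤ : Subgroup P)}
    (hD : D.IsSaturated 3) (hX : X ≤ E) (h : Ch E X) {s : P} (hs : s ∈ normalizer (E : Set P)) (hs' : s ∉ E)
    (h1 : ∀ y ∈ E, cm y s ∈ X) (h2 : ∀ y ∈ X, cm y s ∈ Ph E) : ¬ D.IsEssential 3 E := by
  intro hE
  have r := EssSm.rad_of_essential hP hD hE (mem_top _) (inv_mem hs) (mt (inv_mem_iff.1) hs')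
  have e : ∀ a : E, ((a⁻¹ * cjAut E s⁻¹ (inv_mem hs) a : E) : P) = cm (a : P) s := fun a => by
    simp [cjAut_apply, cj, cm, mul_assoc]
  have i : EssSm.Inv (D.autGroup E) (X.subgroupOf E ⊔ frattini E) := fun g =>
    (sup_le (fun a ha => mem_sup_left (mem_subgroupOf.2 (autFun_coe g.1 a ▸ h g trivial a a.2 ha)))
      fun a ha => mem_sup_right (EssSm.inv_of_char _ _ g a ha) :
        _ ≤ (X.subgroupOf E ⊔ frattini E).comap (g.1 : E →* E))
  have t : X.subgroupOf E ⊔ frattini E ≤ (QuotientGroup.mk' (frattini E)).eqLocus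
      ((QuotientGroup.mk' _).comp (cjAut E s⁻¹ (inv_mem hs) : E →* E)) :=
    sup_le (fun a ha => QuotientGroup.eq.2 ((mem_map_iff_mem E.subtype_injective).1
      (Ph_eq r.pg ▸ (e a).symm ▸ h2 a ha :)))
      fun a ha => QuotientGroup.eq.2 (mul_mem (inv_mem ha) (EssSm.inv_of_char _ _ ⟨_, r.mem⟩ a ha))
  exact r.notMem (r.mem_inn le_sup_right le_rfl i i r.mem (fun a ha => QuotientGroup.eq.1 (t ha))
    (fun a ha => mem_sup_right (QuotientGroup.eq.1 (t ha))) fun a =>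
      mem_sup_left (mem_subgroupOf.2 ((e a).symm ▸ h1 a a.2)))

namespace Md
variable {M : Md P}

theorem el_mem {D : ℕ → ℕ} {j : ℕ} (h : D j ≠ 0 → M.el (D j) ∈ X) : M.el (D j) ∈ X := by
  by_cases a : D j = 0
  · rw [a, M.el_zero]; exact one_mem _
  · exact h a

theorem Full.of_inn {t : ℕ} (hA : M.Full A X) (h : inn A t = true) : M.el t ∈ X := (hA.inn_iff (inn_lt h)).1 h

theorem Full.lt {j : ℕ} (hA : M.Full A X) (hj : j < 10) : A j < 59049 := wf_lt hA.wf hj

/-- part 3: the rules -/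
theorem Full.ph_mem (hB : M.Full B X) (h : phLB B U x y z = true) : T3.wf U = true ∧ ∀ j < 10, M.el (U j) ∈ Ph X := by
  simp only [phLB, Bool.and_eq_true, Bool.or_eq_true, allLt_iff, isz_iff, Nat.beq_eq] at h
  refine ⟨h.1, fun j hj => el_mem fun h0 => ?_⟩
  obtain ⟨a, b, c, e⟩ := (h.2 j hj).resolve_left h0
  rw [e, M.mul (cmc_lt (inn_lt a) (inn_lt b)) (cub_lt (inn_lt c)), M.el_cmc (inn_lt a) (inn_lt b), M.el_cub (inn_lt c)]
  exact mul_mem (subset_closure (.inl ⟨_, hB.of_inn a, _, hB.of_inn b, rfl⟩))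
    (subset_closure (.inr ⟨_, hB.of_inn c, rfl⟩))

/-- `sg U ≤ Ph X` by `ph_mem`.  Conversely `X` normalizes `K = sg U` (`full_of_pcB`, `mem_normalizer`, `Full.le`), `[X, X] ≤ K` (`cm_mem`; `cm a a = 1`,
`cm b a = (cm a b)⁻¹`), and the `a ∈ X` with `a ^ 3 ∈ K` form a subgroup (`X / K` is abelian). -/
theorem Full.ph (hB : M.Full B X) (h : frB B U x y z = true) : M.Full U (Ph X) := by
  simp only [frB, Bool.and_eq_true, allE_iff, allP_iff] at h
  obtain ⟨h1, h2, h3, h4⟩ := h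
  have hK := M.full_of_pcB h2
  have n : X ≤ normalizer (M.sg U : Set P) := hB.le fun j hj j0 => hK.mem_normalizer fun i hi i0 =>
    M.el_cmc (hK.lt hi) (hB.lt hj) ▸ hK.of_inn ((h3 j hj j0).2 i hi i0)
  have l : ∀ j < 10, B j ≠ 0 → ∀ i < j, B i ≠ 0 → cm (M.el (B i)) (M.el (B j)) ∈ M.sg U := fun j hj j0 i hi i0 =>
    M.el_cmc (hB.lt (hi.trans hj)) (hB.lt hj) ▸ hK.of_inn (h4 j hj j0 i hi i0)
  have c := hB.cm_mem hB n n fun i hi i0 j hj j0 => by
    rcases lt_trichotomy i j with a | rfl | a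
    · exact l j hj j0 i a i0
    · simp [cm, one_mem]
    · rw [← Inv.cm_inv]
      exact inv_mem (l i hi i0 j a j0)
  let W : Subgroup P :=
    { carrier := {a | a ∈ X ∧ a ^ 3 ∈ M.sg U}
      one_mem' := ⟨one_mem _, by simp [one_mem]⟩
      inv_mem' := fun ha => ⟨inv_mem ha.1, by rw [inv_pow]; exact inv_mem ha.2⟩
      mul_mem' := fun {a b} ha hb => ⟨mul_mem ha.1 hb.1, by
        convert mul_mem (mul_mem (mul_mem ha.2 (c _ (pow_mem ha.1 2) _ (inv_mem hb.1)))
          (c _ (mul_mem ha.1 (inv_mem hb.1)) _ (inv_mem hb.1))) hb.2 using 1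
        simp [cm, pow_succ, mul_assoc]⟩ }
  have w : X ≤ W := hB.le fun j hj j0 => ⟨hB.mem j hj, M.el_cub (hB.lt hj) ▸ hK.of_inn (h3 j hj j0).1⟩
  refine (le_antisymm ((closure_le _).2 ?_) ((closure_le _).2 ?_) : M.sg U = Ph X) ▸ hK
  · rintro _ ⟨j, hj, rfl⟩
    exact (hB.ph_mem h1).2 j hj
  · rintro _ (⟨a, ha, b, hb, rfl⟩ | ⟨a, ha, rfl⟩)
    · exact c a ha b hb
    · exact (w ha).2

theorem Iv.fr (hB : M.Iv H B) (h : frB B U x y z = true) : M.Iv H U := by
  obtain ⟨X, hX, h1, h2⟩ := hB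
  exact ⟨Ph X, (Ph_le X).trans hX, h1.ph h, autInv_Ph hX h2⟩

/-- with `X`, `Y` the subgroups of `B`, `C`: the subgroup `{y ∈ E | ∀ b ∈ X, cm y b ∈ Y}` is invariant; `cm_mem`, `Full.of_allT`, `Full.inn_iff` -/
theorem Iv.ce (hA : M.Full A E) (hH : Inn E ≤ H) (hB : M.Iv H B) (hC : M.Iv H C) (h : ceB A B C U = true) : M.Iv H U := by
  obtain ⟨X, hX, b1, b2⟩ := hB
  obtain ⟨Y, hY, c1, c2⟩ := hC
  simp only [ceB, Bool.and_eq_true, allE_iff] at h
  obtain ⟨h1, h2, h3⟩ := h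
  have n := le_normalizer_of_autInv hY c2 hH
  let W : Subgroup P :=
    { carrier := {a | a ∈ E ∧ ∀ b ∈ X, cm a b ∈ Y}
      one_mem' := ⟨one_mem _, fun b _ => by simp [cm, one_mem]⟩
      inv_mem' := fun {a} ha => ⟨inv_mem ha.1, fun b hb => by
        convert (mem_normalizer_iff.1 (n ha.1) _).1 (inv_mem (ha.2 b hb)) using 1
        simp [cm, mul_assoc]⟩
      mul_mem' := fun {a a'} ha ha' => ⟨mul_mem ha.1 ha'.1, fun b hb => by
        convert mul_mem ((mem_normalizer_iff.1 (n (inv_mem ha'.1)) _).1 (ha.2 b hb)) (ha'.2 b hb) using 1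
        simp [cm, mul_assoc]⟩ }
  refine ⟨W, fun _ ha => ha.1, hA.of_allT (fun _ ha => ha.1) h1 (fun j hj => el_mem fun j0 => ?_) h3
    fun t ht _ hp hW => ?_, fun α hα a ha hW => ⟨autFun_mem α ha, fun b hb => ?_⟩⟩
  · have a := hA.of_inn (h2 j hj j0).1
    refine ⟨a, fun b hb => ?_⟩
    rw [← Inv.cm_inv]
    refine inv_mem (b1.cm_mem_left (hX.trans n) (n a) (fun i hi i0 => ?_) b hb)
    rw [← Inv.cm_inv]
    exact inv_mem (M.el_cmc (wf_lt h1 hj) (b1.lt hi) ▸ c1.of_inn ((h2 j hj j0).2 i hi i0))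
  · obtain ⟨j, hj, -, e⟩ := anyE_iff.1 hp
    rw [(c1.inn_iff (cmc_lt ht (b1.lt hj))).2 (M.el_cmc ht (b1.lt hj) ▸ hW.2 _ (b1.mem j hj))] at e
    simp at e
  · have k := autFun_mem α⁻¹ (hX hb)
    rw [← autFun_autFun_inv α (hX hb), ← Inv.aut_cm α ha k]
    exact c2 α hα _ (Inv.cm_mem ha k) (hW.2 _ (b2 _ (inv_mem hα) b (hX hb) hb))

/-- `closure {y ∈ E | y ^ 3 = 1} = sg U` (`el (U j) = (el (x j))⁻¹ * (el (x j) * el (U j))`; `forall_of_allT`) -/
theorem Iv.om (hA : M.Full A E) (h : omB A U x = true) : M.Iv H U := by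
  simp only [omB, Bool.and_eq_true, allLt_iff, isz_iff] at h
  obtain ⟨h1, h2, h3⟩ := h
  have hK := M.full_of_pcB h1
  have l : closure {a | a ∈ E ∧ a ^ 3 = 1} ≤ E := (closure_le _).2 fun _ ha => ha.1
  refine ⟨_, l, (le_antisymm ((closure_le _).2 ?_) ((closure_le _).2 fun a ha => ?_) : M.sg U = _) ▸ hK,
    Inv.inv_closure l fun α _ a ha => ⟨autFun_mem α ha.1, ?_⟩⟩
  · rintro _ ⟨j, hj, rfl⟩
    obtain ⟨a, b, c, d⟩ := h2 j hj
    rw [← inv_mul_cancel_left (M.el (x j)) (M.el (U j))]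
    refine mul_mem (inv_mem (subset_closure ⟨hA.of_inn b, ?_⟩))
      (subset_closure ⟨mul_mem (hA.of_inn b) (hA.of_inn a), ?_⟩)
    · rw [← M.el_cub (inn_lt b), c, M.el_zero]
    · rw [← M.mul (inn_lt b) (inn_lt a), ← M.el_cub (mu_lt (inn_lt b) (inn_lt a)), d, M.el_zero]
  · obtain ⟨t, ht, rfl⟩ := M.surj a
    rcases hA.forall_of_allT h3 ht ha.1 with rfl | e
    · rw [M.el_zero]; exact one_mem _
    · rw [isz_iff.2 ((M.el_eq_one (cub_lt ht)).1 ((M.el_cub ht).trans ha.2))] at e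
      exact hK.of_inn (by simpa using e)
  · rw [← (isHomOn_autFun α).map_pow ha.1, ha.2, (isHomOn_autFun α).map_one]

theorem iv_top (hA : M.Full A E) : M.Iv H A := ⟨E, le_rfl, hA, autInv_of_le H le_rfl⟩

theorem iv_bot (M : Md P) : M.Iv H (en 0) := ⟨⊥, bot_le, M.full_bot, autInv_bot H⟩

theorem iv_getD {st : List ℕ} (hst : ∀ D ∈ st, M.Iv H (en D)) (b : ℕ) : M.Iv H (en (st.getD b 0)) := by
  by_cases a : b < st.length
  · rw [List.getD_eq_getElem _ _ a]
    exact hst _ (List.getElem_mem a)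
  · rw [List.getD_eq_default _ _ (not_lt.1 a)]
    exact M.iv_bot

/-- induction on the program -/
theorem iv_run (hA : M.Full A E) (hH : Inn E ≤ H) {prog : List Nd} {st : List ℕ} (hst : ∀ D ∈ st, M.Iv H (en D))
    (h : runP A prog st = true) : ∀ D ∈ stk prog st, M.Iv H (en D) := by
  induction prog generalizing st with
  | nil => simpa [stk] using hst
  | cons nd l ih =>
    obtain ⟨a, b⟩ := Bool.and_eq_true_iff.1 (show (nd.ok A st && runP A l (nd.u :: st)) = true from h)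
    rw [show stk (nd :: l) st = stk l (nd.u :: st) by simp [stk]]
    refine ih (List.forall_mem_cons.2 ⟨?_, hst⟩) b
    cases nd with
    | fr => exact (iv_getD hst _).fr a
    | ce => exact Iv.ce hA hH (iv_getD hst _) (iv_getD hst _) a
    | om => exact Iv.om hA a

theorem Iv.autInv (h : M.Iv H U) (hX : M.Full U X) : AutInv H X :=
  let ⟨_, _, h1, h2⟩ := h; h1.unique hX ▸ h2

theorem Full.kill0 {w : ℕ} (hA : M.Full A E) (hX : X ≤ E) (hI : Ch E X) (hU : ∀ t, inn U t = true → M.el t ∈ X)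
    (h : kill0 A U w = true) : w < 59049 ∧ M.el w ∈ normalizer (E : Set P) ∧ M.el w ∉ E ∧ ∀ a ∈ E, cm a (M.el w) ∈ X := by
  simp only [T3.kill0, Bool.and_eq_true, allE_iff, Nat.blt_eq, Bool.not_eq_true'] at h
  obtain ⟨h1, h2, h3⟩ := h
  have k : ∀ i < 10, A i ≠ 0 → cm (M.el (A i)) (M.el w) ∈ X := fun i hi i0 =>
    M.el_cmc (hA.lt hi) h1 ▸ hU _ (h3 i hi i0)
  have n := hA.mem_normalizer fun i hi i0 => hX (k i hi i0)
  exact ⟨h1, n, fun e => by simp [(hA.inn_iff h1).2 e] at h2,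
    hA.cm_mem_left (le_normalizer_of_autInv hX hI le_top) (mem_normalizer_of_autInv hX hI n trivial) k⟩

/-- part 4: for the empty program take `X = Ph E`; `mem_normalizer`, `cm_mem_left`, `not_essential_of_chain` -/
theorem Full.kill {a : ℕ} {r : Rc} (hA : M.Full (en a) E) (hF : phLB (en a) (en r.F) x y z = true) (h : killB a r = true)
    {D : FusionSystem (⊤ : Subgroup P)} (hD : D.IsSaturated 3) : ¬ D.IsEssential 3 E := by
  have := M.finite
  obtain ⟨f1, f2⟩ := hA.ph_mem hF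
  have c : Ch E (Ph E) := autInv_Ph le_rfl (autInv_of_le _ le_rfl)
  obtain ⟨F, x', y', z', K, C, _ | ⟨nd, l⟩, w⟩ := r
  · obtain ⟨-, n, h1, h2⟩ := hA.kill0 (Ph_le E) c (fun t => inn_sound f1 f2) h
    exact not_essential_of_chain M.pg hD (Ph_le E) c n h1 h2 fun b hb => h2 b (Ph_le E hb)
  · obtain ⟨k1, k2⟩ := Bool.and_eq_true_iff.1 (show (runP (en a) (nd :: l) [a] &&
      kill1 (en a) (en ((stk (nd :: l) [a]).getD 0 0)) (en F) w) = true from h)
    obtain ⟨X, hX, u1, u2⟩ := iv_getD (iv_run (H := ⊤) hA le_top (by simpa using iv_top hA) k1) 0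
    obtain ⟨k3, k4⟩ := Bool.and_eq_true_iff.1 k2
    obtain ⟨hw, n, h1, h2⟩ := hA.kill0 hX u2 (fun t => u1.of_inn) k3
    exact not_essential_of_chain M.pg hD hX u2 n h1 h2 (u1.cm_mem_left
      (hX.trans (le_normalizer_of_autInv (Ph_le E) c le_top)) (mem_normalizer_of_autInv (Ph_le E) c n trivial)
      fun i hi i0 => M.el_cmc (u1.lt hi) hw ▸ inn_sound f1 f2 (allE_iff.1 k4 i hi i0))

end Md

end CL.T3
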