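/- S5228: the automizers of the two maximal subgroups. -/
import Cfsg.Agent.FUS.T3.Defs
import Cfsg.Agent.FUS.T3.LA
import Cfsg.Agent.FUS.Transv
set_option autoImplicit false

namespace CL.T3
open Cfsg CL.Fus Subgroup

variable {P : Type*} [Group P]

/-- STUB `T3/Ext`, part 1 (~10 lines): `E` is fully normalized (`fullyNormalized_of_normal`), receptive, and `Nphi ⊤ E w = ⊤`
(`mem_Nphi_autFun_iff`); `Mor.exists_aut`, `Mor.img_top`. -/
theorem lift [Finite P] (hP : IsPGroup 3 (⊤ : Subgroup P)) {D : FusionSystem (⊤ : Subgroup P)} (hD : D.IsSaturated 3)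
    {E : Subgroup P} [E.Normal] {w : MulAut E} (hw : w ∈ D.autGroup E)
    (hn : w ∈ normalizer ((autInducedBy ⊤ E : Subgroup (MulAut E)) : Set (MulAut E))) :
    ∃ φ ∈ D.autGroup ⊤, Set.EqOn (autFun φ) (autFun w) E := by
  have : Fact (Nat.Prime 3) := ⟨Nat.prime_three⟩
  have hN : (⊤ : Subgroup P) ≤ normalizer (E : Set P) := le_normalizer_of_normal
  obtain ⟨g, hg, e⟩ := exists_extend_of_receptive
    (receptive_of_fullyNormalized hP hD (fullyNormalized_of_normal D le_top hN)) (mor_autFun le_top hw) (img_autFun w)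
  have hg' : Mor D ⊤ g := hg.mono fun s hs => (mem_Nphi_autFun_iff le_top hw).2 ⟨hs, hN hs,
    (mem_normalizer_iff.1 hn _).1 (cjAut_mem_autInducedBy hs _)⟩
  obtain ⟨φ, hφ, e'⟩ := hg'.exists_aut hg'.img_top
  exact ⟨φ, hφ, fun x hx => (e' (mem_top x)).trans (e hx)⟩

namespace Ext

theorem cj_eq (s y : P) : y⁻¹ * cj s y = cm y s⁻¹ := by simp [cj, cm, mul_assoc]

theorem cm_inv (x y : P) : (cm x y)⁻¹ = cm y x := by simp [cm, mul_assoc]

theorem cm_mem_iff {B : Subgroup P} [B.Normal] {x y : P} : cm x y ∈ B ↔ Commute (x : P ⧸ B) y := by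
  rw [commute_iff_eq, ← QuotientGroup.mk_mul, ← QuotientGroup.mk_mul, eq_comm, QuotientGroup.eq, cm]
  simp only [mul_inv_rev, mul_assoc]

/-- an element of `⟨u, g u g⁻¹⟩` that inverts the section `A / B` -/
theorem exists_inv {R A B : Subgroup P} {G : Subgroup (MulAut R)} (hA : A ≤ R) (hAi : AutInv G A)
    (hBi : AutInv G B) [B.Normal] (hidx : B.relIndex A = 3 ^ 2) (hexp : ∀ a ∈ A, a ^ 3 ∈ B) {u g : MulAut R}
    (hu : u ∈ G) (hg : g ∈ G) (hup : IsPGroup 3 (zpowers u)) {y0 : P} (hy0 : y0 ∈ A) (h1 : y0⁻¹ * autFun u y0 ∈ B)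
    (h2 : (autFun g y0)⁻¹ * autFun u (autFun g y0) ∉ B) :
    ∃ w ∈ closure ({u, g * u * g⁻¹} : Set (MulAut R)), ∀ x ∈ A, x * autFun w x ∈ B := by
  have : Fact (Nat.Prime 3) := ⟨Nat.prime_three⟩
  let ρ := secAut G hA hAi hBi
  have hV : Nat.card (A ⧸ B.subgroupOf A) = 3 ^ 2 := hidx
  have : Finite (A ⧸ B.subgroupOf A) := Nat.finite_of_card_ne_zero (hV ▸ by norm_num)
  have hexp' : ∀ x : A ⧸ B.subgroupOf A, x ^ 3 = 1 := fun x => QuotientGroup.induction_on x fun y => by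
    rw [← QuotientGroup.mk_pow, QuotientGroup.eq_one_iff]; exact hexp y y.2
  have hfix : ∀ (y : P) (hy : y ∈ A), ρ ⟨u, hu⟩ ((⟨y, hy⟩ : A) : A ⧸ B.subgroupOf A) = (⟨y, hy⟩ : A) ↔
      y⁻¹ * autFun u y ∈ B := fun y hy => by rw [secAut_mk, sec_eq_iff]
  have hy0' := hAi g hg y0 (hA hy0) hy0
  have hu1 : ρ ⟨u, hu⟩ ≠ 1 := fun e => h2 ((hfix _ hy0').1 (by rw [e]; rfl))
  have hup' : IsPGroup 3 (zpowers (ρ ⟨u, hu⟩)) := by
    obtain ⟨k, hk⟩ := isPGroup_zpowers_iff.1 hup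
    refine isPGroup_zpowers_of_pow_eq_one (k := k) ?_
    rw [← map_pow, show (⟨u, hu⟩ : G) ^ 3 ^ k = 1 from Subtype.ext hk, map_one]
  obtain ⟨e1, e2⟩ := TV.exists_diag_of_transv hV hexp' (g := ρ ⟨g, hg⟩) hu1 hup'
    ⟨(⟨y0, hy0⟩ : A), (hfix y0 hy0).2 h1, fun h => h2 ((hfix _ hy0').1 h)⟩
  obtain ⟨w, hw, h3, -⟩ := e2 (-1) (-1) (by norm_num)
  have hcl : closure ({ρ ⟨u, hu⟩, ρ ⟨g, hg⟩ * ρ ⟨u, hu⟩ * (ρ ⟨g, hg⟩)⁻¹} : Set _) =
      (closure ({⟨u, hu⟩, ⟨g, hg⟩ * ⟨u, hu⟩ * (⟨g, hg⟩ : G)⁻¹} : Set G)).map ρ := by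
    rw [MonoidHom.map_closure, Set.image_pair, map_mul, map_mul, map_inv]
  rw [hcl] at hw
  obtain ⟨w, hw, rfl⟩ := hw
  have hc : IsMulCommutative (A ⧸ B.subgroupOf A) := IsPGroup.isMulCommutative_of_card_eq_prime_sq hV
  refine ⟨w, ?_, fun x hx => ?_⟩
  · have := mem_map_of_mem G.subtype hw
    rwa [MonoidHom.map_closure, Set.image_pair] at this
  · obtain ⟨y, y', h4, h5, h6⟩ := e1 ((⟨x, hx⟩ : A) : A ⧸ B.subgroupOf A)
    have h7 : ρ w ((⟨x, hx⟩ : A) : A ⧸ B.subgroupOf A) = ((⟨x, hx⟩ : A) : A ⧸ B.subgroupOf A)⁻¹ := by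
      rw [h6, map_mul, (h3 y h4).1, (h3 y' h5).2, zpow_neg_one, zpow_neg_one, mul_inv_rev, mul_comm']
    rw [secAut_mk, ← QuotientGroup.mk_inv, sec_eq_iff] at h7
    simpa using h7

/-- the general step -/
theorem gen (Y : Sy P) {F : FusionSystem (⊤ : Subgroup P)} (hF : F.IsSaturated 3) {E : Subgroup P} [E.Normal]
    {j : ℕ} (hj : j + 2 ≤ 5) (hA : Y.G (j + 2) ≤ E) (hAi : AutInv (F.autGroup E) (Y.G (j + 2)))
    (hBi : AutInv (F.autGroup E) (Y.G j)) (hC : ¬ AutInv (F.autGroup E) (Y.G (j + 1))) {s : P}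
    (hs : cm s (Y.g (j + 1)) ∉ Y.G j) :
    ∃ w, Tor F E w ∧ Y.W (autFun w) j (-1) ∧ Y.W (autFun w) (j + 1) (-1) := by
  have := Y.finite
  have : Fact (Nat.Prime 3) := ⟨Nat.prime_three⟩
  have := Y.normal (j := j) (by omega)
  have hN : (⊤ : Subgroup P) ≤ normalizer (E : Set P) := le_normalizer_of_normal
  have hT := sylIn_of_fullyNormalized Y.pg hF (fullyNormalized_of_normal F le_top hN)
  have l1 := Y.mono j (by omega)
  have l2 := Y.mono (j + 1) (by omega)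
  have fixT : ∀ t ∈ autInducedBy ⊤ E, ∀ i < 10, ∀ y ∈ E, y ∈ Y.G (i + 1) → y⁻¹ * autFun t y ∈ Y.G i :=
    fun t ht i hi y hy h => by
      obtain ⟨g, -, e⟩ := mem_autInducedBy_iff.1 ht
      rw [e hy, cj_eq]; exact Y.cent i hi y h _
  obtain ⟨g, hg, y, hyE, hy, hgy⟩ : ∃ g ∈ F.autGroup E, ∃ y ∈ E, y ∈ Y.G (j + 1) ∧ autFun g y ∉ Y.G (j + 1) := by
    by_contra! H
    exact hC H
  have hu := cjAut_mem_autInducedBy (K := ⊤) (mem_top s) (hN (mem_top s))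
  obtain ⟨w, hw, hi⟩ := exists_inv hA hAi hBi (u := cjAut E s (hN (mem_top s))) (g := g) (by
      have h1 := ((Y.G j).subgroupOf (Y.G (j + 2))).card_mul_index
      rw [Nat.card_congr (subgroupOfEquivOfLe (l1.trans l2)).toEquiv, Y.card _ (by omega), Y.card _ (by omega),
        pow_add] at h1
      exact Nat.eq_of_mul_eq_mul_left (by positivity) h1)
    (fun a ha => by rw [Y.exp5 a (Y.le hj (by norm_num) ha)]; exact one_mem _) (hT.le hu) hg
    (isPGroup_zpowers_cjAut Y.pg (mem_top s) _) (l2 hy) (fixT _ hu j (by omega) y hyE hy) fun h => hs (by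
      rw [autFun_cjAut _ (autFun_mem g hyE), cj_eq, cm_mem_iff, QuotientGroup.mk_inv, Commute.inv_right_iff] at h
      have := Y.step (j := j + 1) (by omega)
        (R := (centralizer {(s : P ⧸ Y.G j)}).comap (QuotientGroup.mk' (Y.G j)))
        (fun x hx => mem_centralizer_singleton_iff.2 (cm_mem_iff.1 (Y.cent j (by omega) x hx s)))
        (hAi g hg y hyE (l2 hy)) hgy (mem_centralizer_singleton_iff.2 h) (Y.mem (j + 1) (by omega))
      exact cm_mem_iff.2 (Commute.symm (mem_centralizer_singleton_iff.1 this)))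
  let M : Subgroup (MulAut E) := sInf {N | autInducedBy ⊤ E ≤ N ∧ F.autGroup E ≤ normalizer (N : Set (MulAut E))}
  have MG : M ≤ F.autGroup E := sInf_le ⟨hT.le, le_normalizer⟩
  have TM : autInducedBy ⊤ E ≤ M := le_sInf fun N hN => hN.1
  have wM : w ∈ M := (show Subgroup.closure _ ≤ M from le_sInf fun N hN => by
    rw [closure_le, Set.insert_subset_iff, Set.singleton_subset_iff]
    exact ⟨hN.1 hu, (mem_normalizer_iff.1 (hN.2 hg) _).1 (hN.1 hu)⟩) hw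
  let H := M ⊓ stabAut E (Y.G (j + 1))
  have iA : AutInv H (Y.G (j + 2)) := fun α hα => hAi α (MG hα.1)
  have iB : AutInv H (Y.G j) := fun α hα => hBi α (MG hα.1)
  have iC : AutInv H (Y.G (j + 1)) := fun α hα y hy h => (hα.2 y hy).2 h
  have wH : w ∈ H := ⟨wM, mem_stabAut_of_finite (l2.trans hA) fun x hx =>
    ((Y.G (j + 1)).mul_mem_cancel_left hx).1 (l1 (hi x (l2 hx)))⟩
  let L := stabPair H (Y.G j) (Y.G (j + 1)) iC ⊓ stabPair H (Y.G (j + 1)) (Y.G (j + 2)) iA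
  have TH : autInducedBy ⊤ E ≤ H := fun t ht => ⟨TM ht, mem_stabAut_of_finite (l2.trans hA) fun x hx =>
    ((Y.G (j + 1)).mul_mem_cancel_left (inv_mem hx)).1 (l1 (fixT t ht j (by omega) x (hA (l2 hx)) hx))⟩
  obtain ⟨c, hc, hn⟩ := (hT.of_le (C := L)
    (fun t ht => ⟨⟨TH ht, fixT t ht j (by omega)⟩, TH ht, fixT t ht (j + 1) (by omega)⟩)
    fun σ hσ => MG hσ.1.1.1).frattini (b := w) (le_normalizer_of_conj_mem (A := L) (H := H)
      (fun a ha γ hγ => ⟨conj_mem_stabPair iB iC ha.1 hγ, conj_mem_stabPair iC iA ha.2 hγ⟩) wH)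
  have cw : c * w ∈ M := M.mul_mem hc.1.1.1 wM
  have m1 := Y.mem j (by omega)
  have m2 := Y.mem (j + 1) (by omega)
  refine ⟨c * w, ⟨MG cw, fun N h1 h2 => (sInf_le (show N ∈ _ from ⟨h1, h2⟩) : M ≤ N) cw, hn⟩, ?_, ?_⟩
  · have := mul_mem (hi _ (l2 m1)) (hc.1.2 _ (autFun_mem w (hA (l2 m1))) (iC w wH _ (hA (l2 m1)) m1))
    rwa [Sy.W, zpow_neg_one, inv_inv, autFun_mul _ _ (hA (l2 m1)), ← mul_inv_cancel_left (autFun w (Y.g j))
      (autFun c _), ← mul_assoc]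
  · have := mul_mem (l1 (hi _ m2)) (hc.2.2 _ (autFun_mem w (hA m2)) (iA w wH _ (hA m2) m2))
    rwa [Sy.W, zpow_neg_one, inv_inv, autFun_mul _ _ (hA m2), ← mul_inv_cancel_left (autFun w (Y.g (j + 1)))
      (autFun c _), ← mul_assoc]

end Ext

/-- STUB `T3/Ext`, part 2.  General step (prove it once for a section `A / B` of order 9 with middle term `C`, then use it for
`(B, C, A) = (⊥, G 1, G 2)`, `s = g 9` and `(G 1, G 2, G 3)`, `s = g 8`): `G = Aut_F(E)`, `T = autInducedBy ⊤ E = ⟨Inn E, u⟩`,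
`u = cjAut E s` (`E` has index 3).  `Inn E` is trivial on `A / B` (`c92`, `cE3`), `u` fixes exactly `C / B` (`cent`, `n91`, `n82`).  As `C` is not
`G`-invariant some `γ ∈ G` moves a `u`-fixed vector to a non-fixed one; `exists_diag_of_transv` on `secAut` with `t = s = -1` (or
`chain_or_diag`) gives `w₀ ∈ ⟨u, γuγ⁻¹⟩` inverting `A / B`.  Let `M` be the normal closure of `T` in `G` (the inf of all `N` in `Tor.cl`),
`K` the kernel of `M` on `A / B`, `L = K ⊔ T`; `w₀` is central on `A / B`, so normalizes `L`; `T` is Sylow in `L` (`SylIn.of_le`),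
`SylIn.frattini` gives `c ∈ L` with `w = c w₀ ∈ N(T)`; `c` acts on `A / B` as a power of `u`, trivially on `C / B` and `A / C`. -/
theorem Sy.ext1 (Y : Sy P) {F : FusionSystem (⊤ : Subgroup P)} (hF : F.IsSaturated 3) (hE : F.IsEssential 3 (Y.G 9))
    (hmv : ¬ AutInv (F.autGroup (Y.G 9)) (Y.G 1)) :
    ∃ w, Tor F (Y.G 9) w ∧ Y.W (autFun w) 0 (-1) ∧ Y.W (autFun w) 1 (-1) := by
  have := Y.normal (j := 9) (by norm_num)
  exact Ext.gen Y hF (j := 0) (by norm_num) (Y.le (by norm_num) (by norm_num)) (fun α _ => Y.ch92 α trivial)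
    (Y.zero ▸ autInv_bot _) hmv (s := Y.g 9) (by rw [Y.zero, mem_bot]; exact Y.n91)

/-- STUB `T3/Ext`, part 3.  First `¬ AutInv (F.autGroup E2) (G 2)`: otherwise (`mv2`, `chE1`, `chE3`) `cjAut E2 (g 8)` stabilizes the
invariant chain `⊥ ≤ G 1 ≤ G 2 ≤ G 3 ≤ G 4 ≤ G 6 ≤ G 8 ≤ ⊤` (`cent`, `cT6`, `cT8`, `cTT`), so lies in `O₃ = Inn` (`mem_pCore_of_chain`, `isRadical_of_essential`, `cjAut_mem_inn_iff`),
against `E2_ne`.  Then the general step. -/
theorem Sy.ext2 (Y : Sy P) {F : FusionSystem (⊤ : Subgroup P)} (hF : F.IsSaturated 3) (hE : F.IsEssential 3 Y.E2) :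
    ∃ w, Tor F Y.E2 w ∧ Y.W (autFun w) 1 (-1) ∧ Y.W (autFun w) 2 (-1) := by
  have := Y.finite
  have : Fact (Nat.Prime 3) := ⟨Nat.prime_three⟩
  have := Y.normalE2
  have h8 : Y.G 8 ≤ Y.E2 := Y.E2_eq ▸ le_sup_left
  have i1 : AutInv (F.autGroup Y.E2) (Y.G 1) := fun α _ => Y.chE1 α trivial
  have i3 : AutInv (F.autGroup Y.E2) (Y.G 3) := fun α _ => Y.chE3 α trivial
  refine Ext.gen Y hF (j := 1) (by norm_num) ((Y.le (by norm_num) (by norm_num)).trans h8) i3 i1 (fun i2 => ?_) Y.n82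
  obtain ⟨i4, i6, i8⟩ := Y.mv2 _ (inn_le_autGroup F le_top) i2
  have hn : Y.g 8 ∈ normalizer (Y.E2 : Set P) := le_normalizer_of_normal (mem_top _)
  have st : ∀ {A B : Subgroup P}, AutInv (F.autGroup Y.E2) A → AutInv (F.autGroup Y.E2) B →
      (∀ y ∈ B, cm y (Y.g 8)⁻¹ ∈ A) → StabStep 3 (F.autGroup Y.E2) (cjAut Y.E2 (Y.g 8) hn) A B :=
    fun hA hB h => stabStep_mk hA hB fun y hy hyB => by rw [autFun_cjAut _ hy, Ext.cj_eq]; exact h y hyB
  have hm := mem_pCore_of_chain (Y.pg.to_le le_top) (cjAut_mem_autGroup F le_top (mem_top _) hn) (B := ⊤) le_top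
    ((((((((Relation.ReflTransGen.refl).tail (st (autInv_bot _) i1 fun y hy => Y.zero ▸ Y.cent 0 (by norm_num) y hy _)).tail
      (st i1 i2 fun y hy => Y.cent 1 (by norm_num) y hy _)).tail
      (st i2 i3 fun y hy => Y.cent 2 (by norm_num) y hy _)).tail
      (st i3 i4 fun y hy => Y.cent 3 (by norm_num) y hy _)).tail
      (st i4 i6 fun y hy => Ext.cm_inv _ y ▸ inv_mem (Y.cT6 _ y hy))).tail
      (st i6 i8 fun y hy => Ext.cm_inv _ y ▸ inv_mem (Y.cT8 _ y hy))).tail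
      (st i8 (autInv_of_le _ le_top) fun y _ => Y.mono 7 (by norm_num) (Y.cTT _ _)))
  rw [(isRadical_of_essential Y.pg hF hE).2] at hm
  exact Y.E2_ne ((cjAut_mem_inn_iff le_top (centralizerIn_le_of_isCentric hE.1) (mem_top _) hn).1 hm)

end CL.T3
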