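/- S5228: the abstract facts hold in a model. -/
import Cfsg.Agent.FUS.T3.Inv
import Cfsg.Agent.FUS.T3.FactK
set_option autoImplicit false
set_option maxRecDepth 100000

namespace CL.T3
open Cfsg CL.Fus CL.K Subgroup

variable {P : Type*} [Group P] {A B C D : ℕ → ℕ} {X Y Z : Subgroup P}

theorem cm_eq_one {x y : P} : cm x y = 1 ↔ x * y = y * x := by
  rw [cm, mul_assoc, mul_assoc, inv_mul_eq_one, eq_inv_mul_iff_mul_eq, eq_comm]

namespace Md
variable {M : Md P}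

theorem fG (M : Md P) {j : ℕ} (hj : j ≤ 10) : M.Full (dG j) (M.G j) := M.full_G hj (dG_eq j hj)

theorem fT (M : Md P) : M.Full (dG 10) ⊤ := M.G_ten ▸ M.fG le_rfl

theorem Full.bi (hA : M.Full A X) (hB : M.Full B Y) (hC : M.Full C Z) (hX : X ≤ normalizer (Z : Set P))
    (hY : Y ≤ normalizer (Z : Set P)) (h : biB A B C = true) : ∀ x ∈ X, ∀ y ∈ Y, cm x y ∈ Z :=
  hA.cm_mem hB hX hY fun i hi h0 j hj h1 => by
    rw [← M.el_cmc (wf_lt hA.wf hi) (wf_lt hB.wf hj)]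
    exact inn_sound hC.wf hC.mem (allE_iff.1 (allE_iff.1 h i hi h0) j hj h1)

theorem Full.biG (hA : M.Full A X) (hB : M.Full B Y) {k : ℕ} (hk : k ≤ 10) (h : biB A B (dG k) = true) :
    ∀ x ∈ X, ∀ y ∈ Y, cm x y ∈ M.G k :=
  have := M.normal_G k
  hA.bi hB (M.fG hk) (normalizer_eq_top (M.G k) ▸ le_top) (normalizer_eq_top (M.G k) ▸ le_top) h

theorem Full.le_of (hA : M.Full A X) (hB : M.Full B Y) (h : allE A (inn B) = true) : X ≤ Y :=
  hA.le fun j hj h0 => inn_sound hB.wf hB.mem (allE_iff.1 h j hj h0)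

theorem Full.eq_sup (hA : M.Full A X) (hB : M.Full B Y) {k : ℕ} (hk : k < 10)
    (h : ∀ j < 10, (j = k ∨ A j = B j) ∧ (B j = 0 ∨ B j = A j)) : X = Y ⊔ zpowers (M.el (A k)) := by
  refine le_antisymm (hA.le fun j hj _ => ?_) (sup_le (hB.le fun j hj h0 => ?_) (zpowers_le.2 (hA.mem k hk)))
  · rcases (h j hj).1 with rfl | e
    · exact mem_sup_right (mem_zpowers _)
    · exact mem_sup_left (e ▸ hB.mem j hj)
  · exact (h j hj).2.resolve_left h0 ▸ hA.mem j hj

theorem fE (M : Md P) : M.Full dE (M.G 8 ⊔ zpowers (M.el (3 ^ 9))) := by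
  have h := M.full_of_pcB (U := dE) (by decide +kernel)
  rwa [h.eq_sup (M.fG (j := 8) (by norm_num)) (k := 9) (by norm_num) (by decide +kernel)] at h

theorem fU (M : Md P) : M.Full dU (M.G 6 ⊔ zpowers (M.el (3 ^ 7))) := by
  have h := M.full_of_pcB (U := dU) (by decide +kernel)
  rwa [h.eq_sup (M.fG (j := 6) (by norm_num)) (k := 7) (by norm_num) (by decide +kernel)] at h

theorem ivG0 (M : Md P) {H : Subgroup (MulAut X)} : M.Iv H (dG 0) := M.iv_bot

theorem ivT (M : Md P) : (∀ j ≤ 10, M.Iv (E := ⊤) ⊤ (dG j)) ∧ M.Iv (E := ⊤) ⊤ dE ∧ M.Iv (E := ⊤) ⊤ dU := by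
  have h10 : M.Iv (E := ⊤) ⊤ (dG 10) := iv_top M.fT
  have h0 : M.Iv (E := ⊤) ⊤ (dG 0) := M.ivG0
  have h1 := Iv.ce M.fT le_top h10 h0 ceT1
  have h2 := Iv.ce M.fT le_top h10 h1 ceT2
  have h3 := Iv.ce M.fT le_top h10 h2 ceT3
  have h4 := Iv.ce M.fT le_top h10 h3 ceT4
  have h6 := Iv.ce M.fT le_top h10 h4 ceT6
  have h8 := Iv.ce M.fT le_top h10 h6 ceT8
  have h9 := Iv.ce M.fT le_top h2 h0 ceT9
  have h7 := h10.fr frT7
  have h5 := Iv.ce M.fT le_top h7 h2 ceT5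
  refine ⟨fun j hj => ?_, Iv.ce M.fT le_top h3 h1 ceTE, Iv.ce M.fT le_top h9 h4 ceTU⟩
  interval_cases j <;> assumption

theorem ivE (M : Md P) (hE : M.Full dE X) {H : Subgroup (MulAut X)} (hH : Inn X ≤ H) :
    M.Iv H (dG 1) ∧ M.Iv H (dG 3) ∧ M.Iv H (dG 4) ∧ (M.Iv H (dG 2) → M.Iv H (dG 6) ∧ M.Iv H (dG 8)) := by
  have h1 := Iv.ce hE hH (iv_top hE) M.ivG0 ceE1
  have h3 := Iv.ce hE hH ((iv_top hE).fr frEW) M.ivG0 ceE3
  refine ⟨h1, h3, Iv.ce hE hH (Iv.ce hE hH h3 M.ivG0 ceEV) h1 ceE4, fun h2 => ?_⟩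
  have h8 := Iv.ce hE hH h2 M.ivG0 ceE8
  exact ⟨Iv.ce hE hH h8 h3 ceE6, h8⟩

theorem center_le (M : Md P) : center P ≤ M.G 1 := by
  have h := ceT1
  simp only [ceB, Bool.and_eq_true] at h
  refine (M.fT.of_allT le_top h.1 (fun j hj => mem_center_iff.2 fun y => cm_eq_one.1 ?_) h.2.2
    fun t ht _ hp hc => ?_).le fun j hj _ => (M.fG (by norm_num)).mem j hj
  · simpa [M.G_zero] using M.fT.biG (M.fG (j := 1) (by norm_num)) (k := 0) (by norm_num) (by decide +kernel) y trivial _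
      ((M.fG (j := 1) (by norm_num)).mem j hj)
  · obtain ⟨j, hj, -, h1⟩ := anyE_iff.1 hp
    have h2 := wf_lt M.fT.wf hj
    rw [Bool.not_eq_true', ← Bool.not_eq_true, (M.fG (by norm_num)).inn_iff (cmc_lt ht h2), M.el_cmc ht h2,
      cm_eq_one.2 (mem_center_iff.1 hc _).symm] at h1
    exact h1 (one_mem _)

theorem cm_notMem (M : Md P) {a b k : ℕ} (h : a < 59049 ∧ b < 59049 ∧ k ≤ 10 ∧ ¬ cmc a b < 3 ^ k) :
    cm (M.el a) (M.el b) ∉ M.G k := by
  rw [← M.el_cmc h.1 h.2.1, M.mem_G h.2.2.1 (cmc_lt h.1 h.2.1)]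
  exact h.2.2.2

theorem pow_lt {j : ℕ} (hj : j < 10) : 3 ^ j < 59049 := Nat.pow_lt_pow_right (by norm_num) hj

/-- the abstract facts -/
def sy (M : Md P) : Sy P where
  G := M.G
  g j := M.el (3 ^ j)
  E2 := M.G 8 ⊔ zpowers (M.el (3 ^ 9))
  card _ := M.card_G
  zero := M.G_zero
  ten := M.G_ten
  mono _ _ := M.G_mono (Nat.le_succ _)
  mem _ hj := (M.mem_G hj (pow_lt hj)).2 (Nat.pow_lt_pow_right (by norm_num) (Nat.lt_succ_self _))
  notMem _ hj h := lt_irrefl _ ((M.mem_G hj.le (pow_lt hj)).1 h)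
  cent _ := M.cent
  E2_eq := rfl
  E2_ne h := absurd ((M.fE.inn_iff (by norm_num)).2 h) (by decide +kernel)
  chG j hj := (M.ivT.1 j hj).autInv (M.fG hj)
  chE2 := M.ivT.2.1.autInv M.fE
  chU := M.ivT.2.2.autInv M.fU
  frat := by
    have := M.finite
    rw [(M.fG (by norm_num)).unique (M.fT.ph frT7), Ph_eq M.pg, map_le_iff_le_comap]
    exact frattini_le_comap_frattini_of_surjective fun x => ⟨⟨x, trivial⟩, rfl⟩
  center _ h := M.center_le (mem_center_iff.2 fun y => (h y).symm)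
  exp5 g hg := by
    obtain ⟨x, hx, rfl⟩ := M.surj g
    rcases (M.fG (by norm_num)).forall_of_allT (p := fun t => isz (cub t)) (by decide +kernel) hx hg with rfl | h
    · rw [M.el_zero, one_pow]
    · rw [← M.el_cub hx, isz_iff.1 h, M.el_zero]
  c55 x hx y hy := cm_eq_one.1 (by
    simpa [M.G_zero] using (M.fG (by norm_num)).biG (M.fG (by norm_num)) (k := 0) (by norm_num) (by decide +kernel) x hx y hy)
  c92 x hx y hy := cm_eq_one.1 (by
    simpa [M.G_zero] using (M.fG (by norm_num)).biG (M.fG (by norm_num)) (k := 0) (by norm_num) (by decide +kernel) x hx y hy)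
  c95 := (M.fG (by norm_num)).biG (M.fG (by norm_num)) (by norm_num) (by decide +kernel)
  c99 := (M.fG (by norm_num)).biG (M.fG (by norm_num)) (by norm_num) (by decide +kernel)
  c88 := (M.fG (by norm_num)).biG (M.fG (by norm_num)) (by norm_num) (by decide +kernel)
  cTT x y := M.fT.biG M.fT (by norm_num) (by decide +kernel) x trivial y trivial
  cT8 x := M.fT.biG (M.fG (by norm_num)) (by norm_num) (by decide +kernel) x trivial
  cT6 x := M.fT.biG (M.fG (by norm_num)) (by norm_num) (by decide +kernel) x trivial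
  c97 x hx := (M.fG (by norm_num)).biG M.fU (by norm_num) (by decide +kernel) x hx _ (mem_sup_right (mem_zpowers _))
  cE3 := M.fE.biG (M.fG (by norm_num)) (by norm_num) (by decide +kernel)
  n98 := M.cm_notMem (by decide +kernel)
  n86 := M.cm_notMem (by decide +kernel)
  n96 := M.cm_notMem (by decide +kernel)
  n97 := M.cm_notMem (by decide +kernel)
  n94 := M.cm_notMem (by decide +kernel)
  n93 := M.cm_notMem (by decide +kernel)
  n82 := M.cm_notMem (by decide +kernel)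
  n91 h := M.cm_notMem (a := 3 ^ 9) (b := 3 ^ 1) (k := 0) (by decide +kernel) (h ▸ one_mem _)
  ch92 := (Iv.ce (M.fG (by norm_num)) le_top (iv_top (M.fG (by norm_num))) M.ivG0 ce92).autInv (M.fG (by norm_num))
  chE1 := (M.ivE M.fE le_top).1.autInv (M.fG (by norm_num))
  chE3 := (M.ivE M.fE le_top).2.1.autInv (M.fG (by norm_num))
  mv2 H hH h := by
    obtain ⟨-, -, h4, h2⟩ := M.ivE M.fE hH
    obtain ⟨h6, h8⟩ := h2 ⟨_, (M.G_mono (by norm_num)).trans le_sup_left, M.fG (by norm_num), h⟩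
    exact ⟨h4.autInv (M.fG (by norm_num)), h6.autInv (M.fG (by norm_num)), h8.autInv (M.fG (by norm_num))⟩

end Md

end CL.T3
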