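/- S5228: which subgroups are essential; extension of maps. -/
import Cfsg.Agent.FUS.T3.LA
set_option autoImplicit false

namespace CL.T3
open Cfsg Cfsg.FusionSystem CL.Fus Subgroup

variable {P : Type*} [Group P]

theorem map_mem_of_autInv {S : Subgroup P} {F : FusionSystem S} {R U : Subgroup P} {g : P → P} (hg : Mor F R g)
    (e : img g R = R) (h : AutInv (F.autGroup R) U) {x : P} (hx : x ∈ R) (hU : x ∈ U) : g x ∈ U := by
  obtain ⟨α, hα, e'⟩ := hg.exists_aut e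
  exact e' hx ▸ h α hα x hx hU

theorem Ch.autInv {E U : Subgroup P} (h : Ch E U) (G : Subgroup (MulAut E)) : AutInv G U := fun α _ => h α trivial

theorem card_le_of_mor {S : Subgroup P} {F : FusionSystem S} {Q R : Subgroup P} [Finite R] {f : P → P}
    (hf : Mor F Q f) (h : ∀ x ∈ Q, f x ∈ R) : Nat.card Q ≤ Nat.card R :=
  hf.card_img ▸ card_le_of_le (img_le_iff.2 h) le_rfl

/-- STUB `T3/Mv`, part 1 (general, ~40 lines).  Induction on `|X| - |Q|`: if `Q < X` then `Q < N_X(Q) ≤ Nphi R Q f`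
(`f (cj n x) = cj (γ n) (f x)` with `γ n ∈ R`), and `f` extends to `Nphi` (`exists_extend_of_isCentric`, `isCentric_of_le`). -/
theorem climb {R : Subgroup P} [Finite R] (hR : IsPGroup 3 R) {D : FusionSystem R} (hD : D.IsSaturated 3)
    {Q₀ X : Subgroup P} (hc : D.IsCentric Q₀) (hX : X ≤ R)
    (h : ∀ Q f, Q₀ ≤ Q → Q ≤ X → Mor D Q f → ∃ γ, IsHomOn X γ ∧ (∀ x ∈ X, γ x ∈ R) ∧ Set.EqOn γ f Q)
    {Q : Subgroup P} {f : P → P} (h₀ : Q₀ ≤ Q) (hQ : Q ≤ X) (hf : Mor D Q f) :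
    ∃ δ, Mor D X δ ∧ Set.EqOn δ f Q := by
  have : Fact (Nat.Prime 3) := ⟨Nat.prime_three⟩
  have := finite_of_le hX
  refine induction_normalizerIn (hR.to_le hX)
    (motive := fun Q => Q₀ ≤ Q → ∀ f, Mor D Q f → ∃ δ, Mor D X δ ∧ Set.EqOn δ f Q)
    (fun _ f hf => ⟨f, hf, fun _ _ => rfl⟩) (fun Q h1 h2 ih h0 f hf => ?_) Q hQ h₀ f hf
  obtain ⟨γ, hγ, hγR, e⟩ := h Q f h0 h1.le hf
  obtain ⟨g, hg, e'⟩ := exists_extend_of_isCentric hR hD hf (isCentric_of_le hc h0 hf.le)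
  obtain ⟨δ, hδ, e''⟩ := ih (h0.trans h2.le) g (hg.mono fun n hn => ⟨hX hn.1, hn.2, γ n, hγR n hn.1, fun x hx => by
    rw [← e hx, ← e (show cj n x ∈ Q from (mem_normalizer_iff.1 hn.2 x).1 hx), hγ.map_cj hn.1 (h1.le hx)]⟩)
  exact ⟨δ, hδ, fun x hx => (e'' (h2.le hx)).trans (e' hx)⟩

namespace Sy
variable {Y : Sy P} {F : FusionSystem (⊤ : Subgroup P)}

/-- part 2: `alperin_ind` with the motive `∃ γ, Mor F (G 9) γ ∧ img γ (G 9) = G 9 ∧ EqOn γ f Q`; the step subgroup is `⊤` (`chG 9`) or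
`G 9`; it is not `E2` and not of order `3 ^ 5 < |Q|`. -/
theorem Cx.up (h : Y.Cx F) (h2 : ¬ F.IsEssential 3 Y.E2) {Q : Subgroup P} (hQ : Q ≤ Y.G 9) (hc : 3 ^ 5 < Nat.card Q)
    {f : P → P} (hf : Mor F Q f) : ∃ γ, Mor F (Y.G 9) γ ∧ img γ (Y.G 9) = Y.G 9 ∧ Set.EqOn γ f Q := by
  have := Y.finite
  have : Fact (Nat.Prime 3) := ⟨Nat.prime_three⟩
  refine alperin_ind Y.pg h.sat (motive := fun f => ∃ γ, Mor F (Y.G 9) γ ∧ img γ (Y.G 9) = Y.G 9 ∧ Set.EqOn γ f Q)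
    ⟨id, mor_id F le_top, img_id _, fun _ _ => rfl⟩ (fun f g ⟨γ, a, b, c⟩ e => ⟨γ, a, b, c.trans e⟩) ?_ hf
  rintro f R g hf ⟨γ, a, b, c⟩ hR hg e hm
  have m : ∀ x ∈ Y.G 9, γ x ∈ Y.G 9 := img_le_iff.1 b.le
  have key : Y.G 9 ≤ R → AutInv (F.autGroup R) (Y.G 9) →
      ∃ γ, Mor F (Y.G 9) γ ∧ img γ (Y.G 9) = Y.G 9 ∧ Set.EqOn γ (g ∘ f) Q := fun h1 h3 => by
    have d := hg.comp a fun x hx => h1 (m x hx)
    exact ⟨_, d, d.img_eq_self fun x hx => map_mem_of_autInv hg e h3 (h1 (m x hx)) (m x hx),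
      fun x hx => congrArg g (c hx)⟩
  rcases hR with rfl | hR
  · exact key le_top ((Y.chG 9 (by norm_num)).autInv _)
  rcases h.ess R hR with rfl | rfl | h3
  · exact key le_rfl (autInv_of_le _ le_rfl)
  · exact absurd hR h2
  · exact absurd (h3.card ▸ card_le_of_mor hf hm) (not_le.2 hc)

/-- part 3: `w` extends to `N_P(E) = E ⊔ G 5` in every saturated system `D` on `R ≥ E ⊔ G 5` in which `E` is centric and that contains `w`
(`E ⊔ G 5 ≤ Nphi R E w`: `w (cj n) w⁻¹ ∈ autInducedBy ⊤ E` is induced by an element of the normalizer `E ⊔ G 5 ≤ R`). -/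
theorem Th3.extend {E R : Subgroup P} (h : Y.Th3 E) (hR : E ⊔ Y.G 5 ≤ R) {D : FusionSystem R} (hD : D.IsSaturated 3)
    (hc : D.IsCentric E) {w : MulAut E} (hw : w ∈ D.autGroup E)
    (hn : w ∈ normalizer ((autInducedBy ⊤ E : Subgroup (MulAut E)) : Set (MulAut E))) :
    ∃ f, Mor D (E ⊔ Y.G 5) f ∧ Set.EqOn f (autFun w) E := by
  have := Y.finite
  have : Fact (Nat.Prime 3) := ⟨Nat.prime_three⟩
  obtain ⟨g, hg, e⟩ := exists_extend_of_isCentric (Y.pg.to_le le_top) hD (mor_autFun hc.1 hw) hc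
  refine ⟨g, hg.mono fun s hs => (mem_Nphi_autFun_iff hc.1 hw).2 ⟨hR hs, h.norm ▸ hs, ?_⟩, e⟩
  obtain ⟨k, -, hk, e'⟩ := mem_autInducedBy_iff_cjAut.1
    ((mem_normalizer_iff.1 hn _).1 (cjAut_mem_autInducedBy (mem_top s) (h.norm ▸ hs)))
  exact e' ▸ cjAut_mem_autInducedBy (hR (h.norm ▸ hk)) hk

/-- `|E ⊔ G 5| > 3 ^ 5` (`E < E ⊔ G 5` since `|E ⊓ G 5| = 27 < |G 5|`) -/
theorem Th3.card_lt {E : Subgroup P} (h : Y.Th3 E) : 3 ^ 5 < Nat.card ↥(E ⊔ Y.G 5) := by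
  have := Y.finite
  by_contra hn
  have e := eq_of_le_of_card_ge (le_sup_left : E ≤ E ⊔ Y.G 5) (h.card ▸ not_lt.1 hn)
  have h1 := h.cardC
  rw [inf_eq_right.2 (e ▸ le_sup_right), Y.card 5 (by norm_num)] at h1
  norm_num at h1

theorem core_ne (hF : F.IsSaturated 3) (hO : F.core = ⊥) {j : ℕ} (h1 : 1 ≤ j) (hj : j ≤ 10)
    (h : ∀ R, F.IsEssential 3 R → Y.G j ≤ R ∧ AutInv (F.autGroup R) (Y.G j)) : False := by
  have := Y.finite
  have : Fact (Nat.Prime 3) := ⟨Nat.prime_three⟩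
  have := le_core (normal_of_essential Y.pg hF (Q := Y.G j) fun R hR => by
    have ⟨a, b⟩ : Y.G j ≤ R ∧ AutInv (F.autGroup R) (Y.G j) :=
      hR.elim (fun e => by subst e; exact ⟨le_top, (Y.chG j hj).autInv _⟩) (h R)
    exact ⟨a, fun g hg e => (hg.mono a).img_eq_self fun x hx => map_mem_of_autInv hg e b (a hx) hx⟩)
  exact Y.notMem 0 (by norm_num) (Y.zero ▸ hO ▸ this (Y.le h1 hj (Y.mem 0 (by norm_num))))

/-- part 4.  Suppose `G 9` is not essential or `Aut_F(G 9)` fixes `G 1`.  No `E` with `Th3 E` is essential: `la` and `Th3.extend` give a map `f`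
on `Q = E ⊔ G 5` with `f (g 0) ∉ G 1`, but `alperin_ind` (motive `f (g 0) ∈ G 1`; steps `⊤` (`chG 1`), `G 9`, `E2` (`chE1`)) says
`f (g 0) ∈ G 1`.  So `G 1` is normal in `F` (`normal_of_essential`), against `core = ⊥`. -/
theorem Cx.e1 (h : Y.Cx F) (hO : F.core = ⊥) :
    F.IsEssential 3 (Y.G 9) ∧ ¬ AutInv (F.autGroup (Y.G 9)) (Y.G 1) := by
  have := Y.finite
  have : Fact (Nat.Prime 3) := ⟨Nat.prime_three⟩
  by_contra hn
  have key : ∀ R, F.IsEssential 3 R → ¬ Y.Th3 R → Y.G 1 ≤ R ∧ AutInv (F.autGroup R) (Y.G 1) := fun R hR h3 => by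
    rcases h.ess R hR with rfl | rfl | h4
    · exact ⟨Y.le (by norm_num) (by norm_num), by_contra fun e => hn ⟨hR, e⟩⟩
    · exact ⟨(Y.le (by norm_num) (by norm_num)).trans (Y.E2_eq ▸ le_sup_left : Y.G 8 ≤ Y.E2), Y.chE1.autInv _⟩
    · exact absurd h4 h3
  refine core_ne h.sat hO le_rfl (by norm_num) fun E hE => key E hE fun h3 => ?_
  obtain ⟨⟨w, hw, -, hw0⟩, -⟩ := Y.la h.sat hE h3
  obtain ⟨f, hf, e⟩ := h3.extend le_top h.sat hE.1 hw.mem hw.norm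
  have g0 := Y.mem 0 (by norm_num)
  have gE := h3.ge (Y.mono 1 (by norm_num) g0)
  refine hw0 (e gE ▸ alperin_ind Y.pg h.sat (motive := fun f => f (Y.g 0) ∈ Y.G 1) g0
    (fun f g a b => b (mem_sup_left gE) ▸ a) ?_ hf)
  rintro f R g hf a hR hg e hm
  refine map_mem_of_autInv hg e ?_ (hm _ (mem_sup_left gE)) a
  rcases hR with rfl | hR
  · exact (Y.chG 1 (by norm_num)).autInv _
  · exact (key R hR fun h4 => absurd (h4.card ▸ card_le_of_mor hf hm) (not_le.2 h3.card_lt)).2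

/-- part 5: otherwise `G 2` is normal in `F` (`chG 2`, `ch92`). -/
theorem Cx.e3 (h : Y.Cx F) (hO : F.core = ⊥) (h2 : ¬ F.IsEssential 3 Y.E2) : ∃ E, F.IsEssential 3 E ∧ Y.Th3 E := by
  by_contra hn
  refine core_ne (Y := Y) h.sat hO (j := 2) (by norm_num) (by norm_num) fun R hR => ?_
  rcases h.ess R hR with rfl | rfl | h4
  · exact ⟨Y.le (by norm_num) (by norm_num), Y.ch92.autInv _⟩
  · exact absurd hR h2
  · exact absurd ⟨R, hR, h4⟩ hn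

end Sy

end CL.T3
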