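/- S5228: the weights of an automorphism on the characteristic series. -/
import Cfsg.Agent.FUS.T3.Defs
set_option autoImplicit false

namespace CL.T3
open Cfsg CL.Fus Subgroup

variable {P : Type*} [Group P]

namespace Wt
variable (Y : Sy P)

theorem cm_swap (x y : P) : cm x y = (cm y x)⁻¹ := by unfold cm; group

theorem cent' {j : ℕ} (hj : j < 10) (x : P) {y : P} (hy : y ∈ Y.G (j + 1)) : cm x y ∈ Y.G j := by
  rw [cm_swap]; exact inv_mem (Y.cent j hj y hy x)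

theorem cube {j : ℕ} (hj : j < 10) {x : P} (hx : x ∈ Y.G (j + 1)) : x ^ 3 ∈ Y.G j := by
  have := Y.finite
  have := Y.normal hj.le
  have h1 := ((Y.G j).subgroupOf (Y.G (j + 1))).card_mul_index
  rw [Nat.card_congr (subgroupOfEquivOfLe (Y.mono j hj)).toEquiv, Y.card _ hj, Y.card _ hj.le, pow_succ] at h1
  have h2 : (Y.G j).relIndex (Y.G (j + 1)) = 3 := Nat.eq_of_mul_eq_mul_left (by positivity) h1
  exact h2 ▸ (Y.G j).pow_relIndex_mem hx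

theorem cls {j : ℕ} (hj : j < 10) {x y : P} (hx : x ∈ Y.G (j + 1)) (hx' : x ∉ Y.G j) (hy : y ∈ Y.G (j + 1)) :
    ∃ n : ℤ, (x ^ n)⁻¹ * y ∈ Y.G j := by
  have := Y.normal hj.le
  obtain ⟨_, ⟨n, rfl⟩, c, hc, rfl⟩ := mem_sup_of_normal_right.1
    (Y.step hj (R := zpowers x ⊔ Y.G j) le_sup_right hx hx' (mem_sup_left (mem_zpowers x)) hy)
  exact ⟨n, by rwa [inv_mul_cancel_left]⟩

theorem dvd_iff {j : ℕ} (hj : j < 10) {x : P} (hx : x ∈ Y.G (j + 1)) (hx' : x ∉ Y.G j) {n : ℤ} :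
    x ^ n ∈ Y.G j ↔ 3 ∣ n := by
  have := Y.normal hj.le
  have : orderOf (QuotientGroup.mk' (Y.G j) x) = 3 := orderOf_eq_prime
    (by rw [← map_pow]; exact (QuotientGroup.eq_one_iff _).2 (cube Y hj hx))
    fun e => hx' ((QuotientGroup.eq_one_iff _).1 e)
  rw [← QuotientGroup.eq_one_iff, QuotientGroup.mk_zpow, ← orderOf_dvd_iff_zpow_eq_one]
  exact this ▸ Iff.rfl

variable {Y}

theorem W_iff {f : P → P} {j : ℕ} (hj : j < 10) {a b : ℤ} (h : Y.W f j a) : Y.W f j b ↔ 3 ∣ a - b := by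
  rw [← dvd_iff Y hj (Y.mem j hj) (Y.notMem j hj), Sy.W, ← mul_mem_cancel_right (inv_mem h),
    show (Y.g j ^ b)⁻¹ * f (Y.g j) * ((Y.g j ^ a)⁻¹ * f (Y.g j))⁻¹ = Y.g j ^ (a - b) by group]

theorem f_mem (φ : MulAut (⊤ : Subgroup P)) {j : ℕ} (hj : j ≤ 10) {x : P} (hx : x ∈ Y.G j) : autFun φ x ∈ Y.G j :=
  Y.chG j hj φ trivial x trivial hx

/-- the exponent does not depend on the generator -/
theorem tr (φ : MulAut (⊤ : Subgroup P)) {j : ℕ} (hj : j < 10) {x y : P} (hx : x ∈ Y.G (j + 1)) (hx' : x ∉ Y.G j)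
    (hy : y ∈ Y.G (j + 1)) {e : ℤ} (h : (x ^ e)⁻¹ * autFun φ x ∈ Y.G j) : (y ^ e)⁻¹ * autFun φ y ∈ Y.G j := by
  have := Y.normal hj.le
  obtain ⟨n, hn⟩ := cls Y hj hx hx' hy
  have h2 := f_mem φ hj.le hn
  rw [(isHomOn_autFun φ).map_mul trivial trivial, (isHomOn_autFun φ).map_inv trivial,
    (isHomOn_autFun φ).map_zpow trivial] at h2
  rw [← QuotientGroup.eq] at h hn h2 ⊢
  rw [← h2, QuotientGroup.mk_zpow, QuotientGroup.mk_zpow, ← hn, ← h, QuotientGroup.mk_zpow, QuotientGroup.mk_zpow,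
    ← zpow_mul, ← zpow_mul, mul_comm]

theorem sign (φ : MulAut (⊤ : Subgroup P)) {j : ℕ} (hj : j < 10) : ∃ e : ℤ, (e = 1 ∨ e = -1) ∧ Y.W (autFun φ) j e := by
  obtain ⟨n, hn⟩ := cls Y hj (Y.mem j hj) (Y.notMem j hj) (f_mem φ hj (Y.mem j hj))
  have h0 : ¬ Y.W (autFun φ) j 0 := fun H => by
    rw [Sy.W, zpow_zero, inv_one, one_mul] at H
    have := f_mem φ⁻¹ hj.le H
    rw [autFun_inv_autFun φ trivial] at this
    exact Y.notMem j hj this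
  rw [W_iff hj hn] at h0
  by_cases h : 3 ∣ n - 1
  · exact ⟨1, Or.inl rfl, (W_iff hj hn).2 h⟩
  · exact ⟨-1, Or.inr rfl, (W_iff hj hn).2 (by omega)⟩

/-- the commutator map `A / A' × B / B' → G (k + 1) / G k` is bilinear -/
structure Bil (Y : Sy P) (k : ℕ) (A A' B B' : Subgroup P) : Prop where
  lt : k < 10
  lA : A' ≤ A
  lB : B' ≤ B
  h0 : ∀ x ∈ A, ∀ y ∈ B, cm x y ∈ Y.G (k + 1)
  h1 : ∀ x ∈ A', ∀ y ∈ B, cm x y ∈ Y.G k
  h2 : ∀ x ∈ A, ∀ y ∈ B', cm x y ∈ Y.G k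

variable {k : ℕ} {A A' B B' : Subgroup P} {a b a' b' : P} {i j : ℤ}

theorem Bil.bil (h : Bil Y k A A' B B') (ha : a ∈ A) (hb : b ∈ B) (ea : (a ^ i)⁻¹ * a' ∈ A')
    (eb : (b ^ j)⁻¹ * b' ∈ B') : (cm a b ^ (i * j))⁻¹ * cm a' b' ∈ Y.G k := by
  have := Y.normal h.lt.le
  let π := QuotientGroup.mk' (Y.G k)
  have z : ∀ c ∈ Y.G (k + 1), ∀ w, π (w⁻¹ * c * w) = π c := fun c hc w =>
    (QuotientGroup.eq.2 (by simpa only [cm, mul_assoc] using Y.cent k h.lt c hc w)).symm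
  have h1 : ∀ y ∈ B, IsHomOn A fun x => π (cm x y) := fun y hy x hx x' _ => by
    dsimp only
    rw [← z _ (h.h0 x hx y hy) x', ← map_mul]
    exact congrArg π (by unfold cm; group)
  have h2 : ∀ x ∈ A, IsHomOn B fun y => π (cm x y) := fun x hx y hy y' hy' => by
    dsimp only
    rw [← z _ (h.h0 x hx y hy) (y' * (cm x y')⁻¹), ← map_mul]
    exact congrArg π (by unfold cm; group)
  have hb' : b' ∈ B := (mul_mem_cancel_left (inv_mem (zpow_mem hb j))).1 (h.lB eb)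
  have e1 := h1 b' hb' (zpow_mem ha i) (h.lA ea)
  have e2 := h2 a ha (zpow_mem hb j) (h.lB eb)
  have e3 := (h1 b' hb').map_zpow ha i
  have e4 := (h2 a ha).map_zpow hb j
  dsimp only at e1 e2 e3 e4
  rw [mul_inv_cancel_left, show π (cm ((a ^ i)⁻¹ * a') b') = 1 from
    (QuotientGroup.eq_one_iff _).2 (h.h1 _ ea _ hb'), mul_one, e3] at e1
  rw [mul_inv_cancel_left, show π (cm a ((b ^ j)⁻¹ * b')) = 1 from
    (QuotientGroup.eq_one_iff _).2 (h.h2 _ ha _ eb), mul_one, e4] at e2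
  rw [← QuotientGroup.eq]
  show π _ = π _
  rw [e1, e2, map_zpow, ← zpow_mul, mul_comm]

theorem Bil.wt (h : Bil Y k A A' B B') (φ : MulAut (⊤ : Subgroup P)) (ha : a ∈ A) (hb : b ∈ B)
    (ea : (a ^ i)⁻¹ * autFun φ a ∈ A') (eb : (b ^ j)⁻¹ * autFun φ b ∈ B') (hn : cm a b ∉ Y.G k) :
    Y.W (autFun φ) k (i * j) := by
  have := h.bil ha hb ea eb
  have hf := isHomOn_autFun φ
  rw [show cm (autFun φ a) (autFun φ b) = autFun φ (cm a b) by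
    rw [cm, cm, hf trivial trivial, hf trivial trivial, hf trivial trivial, hf.map_inv trivial,
      hf.map_inv trivial]] at this
  exact tr φ h.lt (h.h0 a ha b hb) hn (Y.mem k h.lt) this

theorem Bil.nm {m : ℕ} (h : Bil Y k A A' (Y.G (m + 1)) (Y.G m)) (hm : m < 10) (ha : a ∈ A)
    (hn : cm a (Y.g m) ∉ Y.G k) (hb : b ∈ Y.G (m + 1)) (hb' : b ∉ Y.G m) : cm a b ∉ Y.G k := fun H => by
  obtain ⟨n, e⟩ := cls Y hm hb hb' (Y.mem m hm)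
  have := h.bil (i := 1) (a' := a) ha hb (by rw [zpow_one, inv_mul_cancel]; exact one_mem _) e
  exact hn ((mul_mem_cancel_left (inv_mem (zpow_mem H _))).1 this)

variable (Y)

theorem le' (i j : ℕ) (h : i ≤ j := by norm_num) (hj : j ≤ 10 := by norm_num) : Y.G i ≤ Y.G j := Y.le h hj

theorem lm (i j : ℕ) {x : P} (hx : x ∈ Y.G i) (h : i ≤ j := by norm_num) (hj : j ≤ 10 := by norm_num) :
    x ∈ Y.G j := Y.le h hj hx

theorem b6 : Bil Y 6 ⊤ (Y.G 9) (Y.G 9) (Y.G 8) := ⟨by norm_num, le_top, le' Y 8 9, fun x _ y _ => Y.cTT x y,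
  fun x hx y hy => lm Y 5 6 (Y.c99 x hx y hy), fun x _ y hy => Y.cT8 x y hy⟩

theorem b4 : Bil Y 4 (Y.G 9) (Y.G 8) (Y.G 7) (Y.G 6) := ⟨by norm_num, le' Y 8 9, le' Y 6 7,
  fun x hx y hy => Y.c99 x hx y (lm Y 7 9 hy), fun x hx y hy => Y.c88 x hx y (lm Y 7 8 hy),
  fun x _ y hy => Y.cT6 x y hy⟩

theorem b5 {B : Subgroup P} (h6 : Y.G 6 ≤ B) (h8 : B ≤ Y.G 8) : Bil Y 5 ⊤ (Y.G 9) B (Y.G 6) :=
  ⟨by norm_num, le_top, h6, fun x _ y hy => Y.cT8 x y (h8 hy),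
    fun x hx y hy => Y.c99 x hx y (lm Y 8 9 (h8 hy)), fun x _ y hy => lm Y 4 5 (Y.cT6 x y hy)⟩

theorem b3 : Bil Y 3 ⊤ (Y.G 9) (Y.G 5) (Y.G 4) := ⟨by norm_num, le_top, le' Y 4 5,
  fun x _ y hy => Y.cT6 x y (lm Y 5 6 hy), fun x hx y hy => lm Y 2 3 (Y.c95 x hx y hy),
  fun x _ _ hy => cent' Y (by norm_num) x hy⟩

theorem b2 : Bil Y 2 ⊤ (Y.G 9) (Y.G 4) (Y.G 3) := ⟨by norm_num, le_top, le' Y 3 4,
  fun x _ _ hy => cent' Y (by norm_num) x hy, fun x hx y hy => Y.c95 x hx y (lm Y 4 5 hy),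
  fun x _ _ hy => cent' Y (by norm_num) x hy⟩

theorem b1 : Bil Y 1 (Y.G 9) (Y.G 8) (Y.G 3) (Y.G 2) := ⟨by norm_num, le' Y 8 9, le' Y 2 3,
  fun x _ _ hy => cent' Y (by norm_num) x hy,
  fun x hx y hy => Y.cE3 x (Y.E2_eq ▸ mem_sup_left hx) y hy, fun x _ _ hy => cent' Y (by norm_num) x hy⟩

theorem b0 : Bil Y 0 ⊤ (Y.G 9) (Y.G 2) (Y.G 1) := ⟨by norm_num, le_top, le' Y 1 2,
  fun x _ _ hy => cent' Y (by norm_num) x hy, fun x hx y hy => by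
    rw [show cm x y = 1 by rw [cm, mul_assoc, Y.c92 x hx y hy]; group]; exact one_mem _,
  fun x _ _ hy => cent' Y (by norm_num) x hy⟩

/-- all ten weights -/
theorem all (φ : MulAut (⊤ : Subgroup P)) : ∃ α β : ℤ, (α = 1 ∨ α = -1) ∧ (β = 1 ∨ β = -1) ∧
    Y.W (autFun φ) 9 α ∧ Y.W (autFun φ) 8 β ∧ Y.W (autFun φ) 7 (α * β) ∧ Y.W (autFun φ) 6 (α * β) ∧
    Y.W (autFun φ) 5 β ∧ Y.W (autFun φ) 4 α ∧ Y.W (autFun φ) 3 1 ∧ Y.W (autFun φ) 2 α ∧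
    Y.W (autFun φ) 1 (α * β) ∧ Y.W (autFun φ) 0 β := by
  obtain ⟨α, hα, w9⟩ := sign (Y := Y) φ (j := 9) (by norm_num)
  obtain ⟨β, hβ, w8⟩ := sign (Y := Y) φ (j := 8) (by norm_num)
  have aa : α * α = 1 := by rcases hα with rfl | rfl <;> rfl
  have bb : β * β = 1 := by rcases hβ with rfl | rfl <;> rfl
  have m := Y.mem
  have w6 := (b6 Y).wt φ trivial (m 8 (by norm_num)) w9 w8 Y.n98
  have w4 := (b4 Y).wt φ (m 8 (by norm_num)) (m 6 (by norm_num)) w8 w6 Y.n86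
  rw [mul_left_comm, bb, mul_one] at w4
  have w5 := (b5 Y (le' Y 6 7) (le' Y 7 8)).wt φ trivial (m 6 (by norm_num)) w9 w6 Y.n96
  rw [← mul_assoc, aa, one_mul] at w5
  have w3 := (b3 Y).wt φ trivial (m 4 (by norm_num)) w9 w4 Y.n94
  rw [aa] at w3
  have w2 := (b2 Y).wt φ trivial (m 3 (by norm_num)) w9 w3 Y.n93
  rw [mul_one] at w2
  have w1 := (b1 Y).wt φ (m 8 (by norm_num)) (m 2 (by norm_num)) w8 w2 Y.n82
  rw [mul_comm] at w1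
  have w0 := (b0 Y).wt φ trivial (m 1 (by norm_num)) w9 w1 (by rw [Y.zero]; exact Y.n91)
  rw [← mul_assoc, aa, one_mul] at w0
  refine ⟨α, β, hα, hβ, w9, w8, ?_, w6, w5, w4, w3, w2, w1, w0⟩
  have := Y.normal (j := 6) (by norm_num)
  have hU := Y.chU φ trivial _ trivial (mem_sup_right (mem_zpowers (Y.g 7)))
  rw [sup_comm] at hU
  obtain ⟨_, ⟨n, rfl⟩, c, hc, e⟩ := mem_sup_of_normal_right.1 hU
  have h7 : (Y.g 7 ^ n)⁻¹ * autFun φ (Y.g 7) ∈ Y.G 6 := by rwa [← e, inv_mul_cancel_left]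
  have w5' := (b5 Y le_sup_left (sup_le (le' Y 6 8) (zpowers_le.2 (m 7 (by norm_num))))).wt φ trivial
    (mem_sup_right (mem_zpowers _)) w9 h7 Y.n97
  rw [W_iff (by norm_num) w5] at w5'
  refine (W_iff (a := n) (by norm_num) (lm Y 6 7 h7)).2 ?_
  rcases hα with rfl | rfl <;> omega

end Wt

/-- STUB `T3/Wt`, part 1 (~150 lines).  Bilinearity lemma: `A' ≤ A`, `B' ≤ B`, `C' ≤ C` normal, `[A, B] ≤ C`, `[A', B], [A, B'] ≤ C'`,
`C / C'` central; then `cm (a ^ i a') (b ^ j b') ≡ (cm a b) ^ (i j)` mod `C'`.  Every `φ` acts on `G (j+1) / G j` (order 3) by a sign `w j`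
(`chG`, `step`).  If `cm a b ∉ C' = G k`, `C = G (k+1)`, then `w k = w(a) w(b)`.  Use, with `α = w 9`, `β = w 8`:
`⊤/G 9 × G 9/G 8 → G 7/G 6` (`cTT`, `c99`, `cT8`, `cent 6`, `n98`),
`G 9/G 8 × G 7/G 6 → G 5/G 4` (`c99`, `c88`, `cT6`, `n86`), `⊤/G 9 × G 7/G 6 → G 6/G 5` (`cT8`, `c99`, `cT6`, `n96`),
`⊤/G 9 × U/G 6 → G 6/G 5` with `U = G 6 ⊔ ⟨g 7⟩` (`chU`, `cT8`, `c97`+`cT6`, `n97`; `φ (g 7) ∈ g 7 ^ (w 7) G 6`),
`⊤/G 9 × G 5/G 4 → G 4/G 3` (`c95`, `cent`, `n94`), `⊤/G 9 × G 4/G 3 → G 3/G 2` (`n93`), `G 9/G 8 × G 3/G 2 → G 2/G 1` (`cE3`, `c92`, `n82`),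
`⊤/G 9 × G 2/G 1 → G 1` (`c92`, `n91`).  Result `w 6 = αβ, w 4 = α, w 5 = β, w 7 = αβ, w 3 = 1, w 2 = α, w 1 = αβ, w 0 = β`. -/
theorem Sy.wt (Y : Sy P) (φ : MulAut (⊤ : Subgroup P)) : ∃ α β : ℤ, (α = 1 ∨ α = -1) ∧ (β = 1 ∨ β = -1) ∧
    Y.W (autFun φ) 9 α ∧ Y.W (autFun φ) 8 β ∧ Y.W (autFun φ) 7 (α * β) ∧ Y.W (autFun φ) 2 α ∧
    Y.W (autFun φ) 1 (α * β) ∧ Y.W (autFun φ) 0 β := by
  obtain ⟨α, β, hα, hβ, w9, w8, w7, -, -, -, -, w2, w1, w0⟩ := Wt.all Y φ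
  exact ⟨α, β, hα, hβ, w9, w8, w7, w2, w1, w0⟩

/-- the sign is unique (`g j ^ 2 ∉ G j`) -/
theorem Sy.W_unique (Y : Sy P) {f : P → P} {j : ℕ} (hj : j < 10) {a b : ℤ} (ha : a = 1 ∨ a = -1) (hb : b = 1 ∨ b = -1)
    (h : Y.W f j a) (h' : Y.W f j b) : a = b := by
  rw [Wt.W_iff hj h] at h'
  omega

/-- signs multiply -/
theorem Sy.W_mul (Y : Sy P) (φ ψ : MulAut (⊤ : Subgroup P)) {j : ℕ} (hj : j < 10) {a b : ℤ}
    (h : Y.W (autFun φ) j a) (h' : Y.W (autFun ψ) j b) : Y.W (autFun (φ * ψ)) j (a * b) := by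
  have := Y.normal hj.le
  have h1 := Wt.tr φ hj (Y.mem j hj) (Y.notMem j hj) (Wt.f_mem ψ hj (Y.mem j hj)) h
  rw [Sy.W, autFun_mul φ ψ trivial]
  rw [Sy.W] at h'
  rw [← QuotientGroup.eq] at h' h1 ⊢
  rw [← h1, QuotientGroup.mk_zpow, QuotientGroup.mk_zpow, ← h', QuotientGroup.mk_zpow, ← zpow_mul, mul_comm]

/-- `φ` is trivial on `⊤/G 9`, `G 9/G 8`, `G 8/G 7` (`wt`, `W_unique`) and `G 7 ≤ Φ(P)`, so it lies in `O₃(Aut_F(P)) = Inn`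
(`isRadical_top`; see the proof of `CL.EssSm.Rad.mem_inn`: an automorphism of order prime to 3 that is trivial on the chain is trivial
modulo the Frattini subgroup, hence trivial). -/
theorem Sy.top_inn (Y : Sy P) {F : FusionSystem (⊤ : Subgroup P)} (hF : F.IsSaturated 3) {φ : MulAut (⊤ : Subgroup P)}
    (hφ : φ ∈ F.autGroup ⊤) (h9 : Y.W (autFun φ) 9 1) (h8 : Y.W (autFun φ) 8 1) : φ ∈ Inn (⊤ : Subgroup P) := by
  have := Y.finite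
  obtain ⟨α, β, hα, hβ, w9, w8, w7, w6, w5, w4, w3, w2, w1, w0⟩ := Wt.all Y φ
  obtain rfl := Y.W_unique (by norm_num) hα (Or.inl rfl) w9 h9
  obtain rfl := Y.W_unique (by norm_num) hβ (Or.inl rfl) w8 h8
  have w : ∀ j < 10, Y.W (autFun φ) j 1 := fun j hj => by interval_cases j <;> assumption
  have ch : ∀ j ≤ 10, Relation.ReflTransGen (StabStep 3 (F.autGroup ⊤) φ) ⊥ (Y.G j) := fun j => by
    induction j with
    | zero => exact fun _ => Y.zero ▸ Relation.ReflTransGen.refl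
    | succ j ih =>
      refine fun hj => (ih (by omega)).tail (Or.inl ⟨fun α _ => Y.chG j (by omega) α trivial,
        fun α _ => Y.chG _ hj α trivial, fun y _ hy => ?_⟩)
      have := Wt.tr φ hj (Y.mem j hj) (Y.notMem j hj) hy (w j hj)
      rwa [zpow_one] at this
  rw [← (isRadical_top Y.pg hF).2]
  exact mem_pCore_of_chain Y.pg hφ Y.ten.ge (ch 10 le_rfl)

/-- the determinant on `G 2` is `w 0 * w 1 = α` -/
theorem Sy.W_of_det (Y : Sy P) (φ : MulAut (⊤ : Subgroup P)) (h : Det (Y.g 0) (Y.g 1) (autFun φ) (-1)) :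
    Y.W (autFun φ) 9 (-1) := by
  obtain ⟨a, b, c, d, e0, e1, e⟩ := h
  obtain ⟨α, β, hα, hβ, w9, -, -, -, w1, w0⟩ := Y.wt φ
  have g0 := Y.mem 0 (by norm_num)
  have h1 : 3 ∣ c := (Wt.dvd_iff Y (by norm_num) (Y.mem 1 (by norm_num)) (Y.notMem 1 (by norm_num))).1
    ((mul_mem_cancel_left (zpow_mem g0 a)).1 (e0 ▸ Wt.f_mem φ (by norm_num) g0))
  have h2 : Y.W (autFun φ) 1 d := by
    rw [Sy.W, e1, ← mul_assoc]
    exact (Y.normal (by norm_num)).conj_mem' _ (zpow_mem g0 b) _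
  have h3 : Y.W (autFun φ) 0 a := by
    obtain ⟨c, rfl⟩ := h1
    rw [Sy.W, e0, inv_mul_cancel_left, zpow_mul, show Y.g 1 ^ (3 : ℤ) = 1 from
      (zpow_natCast _ 3).trans (Y.exp5 _ (Wt.lm Y 2 5 (Y.mem 1 (by norm_num)))), one_zpow]
    exact one_mem _
  rw [Wt.W_iff (by norm_num) w1] at h2
  rw [Wt.W_iff (by norm_num) w0] at h3
  replace h1 := (ZMod.intCast_zmod_eq_zero_iff_dvd _ 3).2 h1
  replace h2 := (ZMod.intCast_zmod_eq_zero_iff_dvd _ 3).2 h2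
  replace h3 := (ZMod.intCast_zmod_eq_zero_iff_dvd _ 3).2 h3
  push_cast at h2 h3 e
  rw [h1, ← sub_eq_zero.1 h2, ← sub_eq_zero.1 h3] at e
  rcases hα with rfl | rfl
  · rcases hβ with rfl | rfl <;> simp at e <;> exact absurd e (by decide)
  · exact w9

/-- `r₁ = cm (g 9) r ∈ G 7 \ G 6`, `r₂ = cm (g 8) r₁ ∈ G 5 \ G 4`, `r₃ = cm (g 9) r₂ ∈ G 4 \ G 3`, `r₄ = cm (g 9) r₃ ∈ G 3 \ G 2` by
bilinearity; then `step` three times. -/
theorem Sy.V_le (Y : Sy P) {R : Subgroup P} [R.Normal] (h2 : Y.G 2 ≤ R) {r : P} (hr : r ∈ R) (h9 : r ∈ Y.G 9)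
    (h8 : r ∉ Y.G 8) : Y.G 5 ≤ R := by
  have k : ∀ x, ∀ y ∈ R, cm x y ∈ R := fun x y hy => by
    have := mul_mem ((inferInstance : R.Normal).conj_mem' _ (inv_mem hy) x) hy
    exact this
  have r1 := (Wt.b6 Y).nm (by norm_num) trivial Y.n98 h9 h8
  have m1 := (Wt.b6 Y).h0 (Y.g 9) trivial _ h9
  have r2 := (Wt.b4 Y).nm (by norm_num) (Y.mem 8 (by norm_num)) Y.n86 m1 r1
  have m2 := (Wt.b4 Y).h0 _ (Y.mem 8 (by norm_num)) _ m1
  have r3 := (Wt.b3 Y).nm (by norm_num) trivial Y.n94 m2 r2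
  have m3 := (Wt.b3 Y).h0 (Y.g 9) trivial _ m2
  have r4 := (Wt.b2 Y).nm (by norm_num) trivial Y.n93 m3 r3
  have m4 := (Wt.b2 Y).h0 (Y.g 9) trivial _ m3
  have s2 := k (Y.g 8) _ (k (Y.g 9) _ hr)
  exact Y.step (by norm_num) (Y.step (by norm_num) (Y.step (by norm_num) h2 m4 r4 (k _ _ (k _ _ s2))) m3 r3
    (k _ _ s2)) m2 r2 s2

/-- a nontrivial normal subgroup meets the centre `G 1` -/
theorem Sy.G1_le (Y : Sy P) {R : Subgroup P} [R.Normal] (h : R ≠ ⊥) : Y.G 1 ≤ R := by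
  have k : ∀ j ≤ 10, ∀ r ∈ R, r ∈ Y.G j → r ≠ 1 → Y.G 1 ≤ R := fun j => by
    induction j with
    | zero => exact fun _ r _ h0 h1 => (h1 (by rwa [Y.zero] at h0)).elim
    | succ j ih =>
      intro hj r hr hG h1
      by_cases c : ∀ y, r * y = y * r
      · exact Y.step (by norm_num) (Y.zero ▸ bot_le) (Y.center r c) (by rwa [Y.zero]) hr
      · obtain ⟨y, hy⟩ := not_forall.1 c
        refine ih (by omega) (cm r y) ?_ (Y.cent j hj r hG y) fun e => hy ?_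
        · have := mul_mem (inv_mem hr) ((inferInstance : R.Normal).conj_mem' _ hr y)
          rwa [← mul_assoc, ← mul_assoc] at this
        · rw [← mul_one (y * r), ← e, cm]; group
  obtain ⟨⟨r, hr⟩, h1⟩ := ne_bot_iff_exists_ne_one.1 h
  exact k 10 le_rfl r hr (Y.ten ▸ trivial) fun e => h1 (Subtype.ext e)

end CL.T3
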