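/- S5228: a normal subsystem is supported on the whole group. -/
import Cfsg.Agent.FUS.T3.Mv
import Cfsg.Agent.FUS.T3.Ext
import Cfsg.Agent.FUS.T3.Wt
import Cfsg.Agent.FUS.T3.Dt
set_option autoImplicit false

namespace CL.T3
open Cfsg Cfsg.FusionSystem CL.Fus Subgroup

variable {P : Type*} [Group P]

namespace Sy
variable {Y : Sy P} {F : FusionSystem (⊤ : Subgroup P)}

theorem P1.normal_of_sc {R : Subgroup P} (hR : F.StronglyClosed R) : R.Normal :=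
  ⟨fun _ hx g => sc_map_mem hR (mor_cj F le_rfl (mem_top g)) (mem_top _) hx⟩

theorem P1.det_congr {z₀ z₁ : P} {f f' : P → P} {ε : ZMod 3} (h : Det z₀ z₁ f ε) (h0 : f' z₀ = f z₀)
    (h1 : f' z₁ = f z₁) : Det z₀ z₁ f' ε := by
  obtain ⟨a, b, c, d, e0, e1, e⟩ := h
  exact ⟨a, b, c, d, h0.trans e0, h1.trans e1, e⟩

theorem P1.W_congr {f f' : P → P} {j : ℕ} {a : ℤ} (h : Y.W f j a) (e : f' (Y.g j) = f (Y.g j)) : Y.W f' j a := by
  unfold Sy.W at h ⊢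
  rwa [e]

theorem p1_mem (Y : Sy P) {i j : ℕ} (h : i < j) (hj : j ≤ 10) : Y.g i ∈ Y.G j := Y.le h hj (Y.mem i (by omega))

theorem p1_index (Y : Sy P) {j : ℕ} (hj : j ≤ 10) : (Y.G j).index = 3 ^ (10 - j) := by
  have h1 := (Y.G j).card_mul_index
  have h2 := Y.card 10 le_rfl
  rw [Y.ten, card_top] at h2
  rw [Y.card j hj, h2, show 10 = j + (10 - j) by omega, pow_add] at h1
  rw [Nat.eq_of_mul_eq_mul_left (by positivity) h1]

theorem p1_G8 (Y : Sy P) : Y.G 8 ≤ Y.E2 := Y.E2_eq ▸ le_sup_left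

theorem p1_g9 (Y : Sy P) : Y.g 9 ∈ Y.E2 := Y.E2_eq ▸ mem_sup_right (mem_zpowers _)

theorem p1_indexE2 (Y : Sy P) : Y.E2.index = 3 := by
  have h1 := relIndex_mul_index Y.p1_G8
  rw [Y.p1_index (by norm_num)] at h1
  obtain ⟨k, hk, e⟩ := (Nat.dvd_prime_pow Nat.prime_three).1 (Dvd.intro_left _ h1)
  rw [e] at h1 ⊢
  interval_cases k
  · exact absurd (index_eq_one.1 e ▸ mem_top _) Y.E2_ne
  · rfl
  · exact absurd (Y.mono 8 (by norm_num) (relIndex_eq_one.1 (by omega) Y.p1_g9)) (Y.notMem 9 (by norm_num))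

theorem p1_comm (Y : Sy P) (A B : Subgroup P) : ⁅A, B⁆ ≤ Y.G 7 := commutator_le.2 fun x _ y _ => by
  have := Y.cTT x⁻¹ y⁻¹
  rwa [cm, inv_inv, inv_inv] at this

theorem p1_notW (Y : Sy P) {f : P → P} {j : ℕ} (hj : j < 10) (h : Y.W f j (-1)) :
    (Y.g j)⁻¹ * f (Y.g j) ∉ Y.G j := fun H =>
  absurd (Y.W_unique hj (Or.inl rfl) (Or.inr rfl) (by rwa [Sy.W, zpow_one]) h) (by decide)

theorem p1_step (Y : Sy P) {f : P → P} {j : ℕ} (hj : j < 10) (h : Y.W f j (-1)) {L : Subgroup P} (hL : Y.G j ≤ L)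
    (hx : (Y.g j)⁻¹ * f (Y.g j) ∈ L) : Y.G (j + 1) ≤ L := by
  refine Y.step hj hL ?_ (Y.p1_notW hj h) hx
  have := mul_mem (zpow_mem (Y.mem j hj) (-1)) (Y.mono j hj h)
  rw [mul_inv_cancel_left] at this
  exact mul_mem (inv_mem (Y.mem j hj)) this

/-- STUB `T3/P1`, part 1.  `R` strongly closed, `E` normal of index 3, `r ∈ R \ E`.  `N = stabPair (Aut_F E) ((R ⊓ E) ⊔ ⁅E, E⁆) ⊤`
(`autInv_of_sc`) is normalized by `Aut_F(E)` (`conj_mem_stabPair`) and contains `autInducedBy ⊤ E` (every element of `P` is `r ^ i e`);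
so `w ∈ N` by `Tor.cl`. -/
theorem Tor.triv {E R : Subgroup P} [Finite P] [E.Normal] (hE : E.index = 3) (hR : F.StronglyClosed R) {r : P} (hr : r ∈ R)
    (hrE : r ∉ E) {w : MulAut E} (hw : Tor F E w) : ∀ y ∈ E, y⁻¹ * autFun w y ∈ R ⊔ ⁅E, E⁆ := by
  have hn := P1.normal_of_sc hR
  have hAE : R ⊓ E ⊔ ⁅E, E⁆ ≤ E := sup_le inf_le_right (commutator_le_left E E)
  have hA : AutInv (F.autGroup E) (R ⊓ E ⊔ ⁅E, E⁆) := fun α hα y _ hy => by
    have h1 := (isHomOn_autFun α).mono hAE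
    refine img_le_iff.1 ?_ y hy
    rw [h1.img_sup]
    refine sup_le_sup (img_le_iff.2 fun x hx => ⟨autInv_of_sc hR le_top α hα x hx.2 hx.1, autFun_mem α hx.2⟩) ?_
    have : ⁅E, E⁆ ≤ (⁅E, E⁆.comap (E.subtype.comp α.toMonoidHom)).map E.subtype :=
      commutator_le.2 fun x hx y hy => ⟨⟨x, hx⟩ * ⟨y, hy⟩ * ⟨x, hx⟩⁻¹ * ⟨y, hy⟩⁻¹, by
        simp only [SetLike.mem_coe, mem_comap, map_mul, map_inv]
        exact commutator_mem_commutator (α ⟨x, hx⟩).2 (α ⟨y, hy⟩).2, rfl⟩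
    refine img_le_iff.2 fun x hx => ?_
    obtain ⟨x, hx', rfl⟩ := this hx
    rw [coe_subtype, autFun_coe]
    exact hx'
  have top : R ⊔ E = ⊤ := by
    have h1 := relIndex_mul_index (le_sup_right : E ≤ R ⊔ E)
    rw [hE] at h1
    rcases (Nat.dvd_prime Nat.prime_three).1 (Dvd.intro_left _ h1) with e | e
    · exact index_eq_one.1 e
    · rw [e] at h1
      exact absurd ((relIndex_eq_one (H := E) (K := R ⊔ E)).1 (by omega) (mem_sup_left hr)) hrE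
  have := hw.cl (stabPair (F.autGroup E) (R ⊓ E ⊔ ⁅E, E⁆) ⊤ (autInv_of_le _ le_top)) (fun α hα => by
    refine ⟨autInducedBy_le_autGroup F le_top hα, fun y hy _ => ?_⟩
    obtain ⟨g, -, e⟩ := mem_autInducedBy_iff.1 hα
    obtain ⟨s, hs, x, hx, rfl⟩ := mem_sup_of_normal_right.1 (top.ge (mem_top g))
    have hz : x * y * x⁻¹ ∈ E := mul_mem (mul_mem hx hy) (inv_mem hx)
    rw [e hy, show y⁻¹ * cj (s * x) y = y⁻¹ * x * y⁻¹⁻¹ * x⁻¹ * ((x * y * x⁻¹)⁻¹ * (s * (x * y * x⁻¹) * s⁻¹)) by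
      rw [cj]; group]
    refine mul_mem (mem_sup_right (commutator_mem_commutator (inv_mem hy) hx)) (mem_sup_left ⟨?_,
      E.mul_mem (E.inv_mem hz) (Normal.conj_mem inferInstance _ hz s)⟩)
    rw [← mul_assoc, ← mul_assoc]
    exact R.mul_mem (hn.conj_mem' _ hs _) (R.inv_mem hs))
    (le_normalizer_of_conj_mem fun a ha g hg => conj_mem_stabPair hA _ ha hg)
  exact fun y hy => (sup_le_sup_right inf_le_left _ : R ⊓ E ⊔ ⁅E, E⁆ ≤ _) (this.2 y hy trivial)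

/-- part 2.  `ext1`, `lift` give `φ` with `w 0 = w 1 = -1`, so `β = -1`, `α = 1`, `w 8 = w 7 = -1` (`wt`, `W_unique`).  By `Tor.triv` and
`⁅G 9, G 9⁆ ≤ G 5 ≤ G 7` the subgroup `R ⊔ G 7` contains `(g 7)⁻¹ φ (g 7) ∈ G 8 \ G 7`, then `(g 8)⁻¹ φ (g 8) ∈ G 9 \ G 8`, then `r`: it is `⊤`
(`step`); `frat` (`frattini_nongenerating`). -/
theorem Cx.top_of_not_le (h : Y.Cx F) (hO : F.core = ⊥) {R : Subgroup P} (hR : F.StronglyClosed R) (h9 : ¬ R ≤ Y.G 9) :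
    R = ⊤ := by
  have := Y.finite
  have := Y.normal (j := 9) (by norm_num)
  obtain ⟨r, hr, hr9⟩ := SetLike.not_le_iff_exists.1 h9
  obtain ⟨hE, hmv⟩ := h.e1 hO
  obtain ⟨w, hw, w0, w1⟩ := Y.ext1 h.sat hE hmv
  obtain ⟨φ, -, e⟩ := lift Y.pg h.sat hw.mem hw.norm
  obtain ⟨α, β, hα, hβ, -, h8, h7, -, h1, h0⟩ := Y.wt φ
  obtain rfl : β = -1 := Y.W_unique (by norm_num) hβ (Or.inr rfl) h0
    (P1.W_congr w0 (e (Y.p1_mem (by norm_num) (by norm_num))))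
  rw [Y.W_unique (j := 1) (by norm_num) (by rcases hα with rfl | rfl <;> simp) (Or.inr rfl) h1
    (P1.W_congr w1 (e (Y.p1_mem (by norm_num) (by norm_num))))] at h7
  have k : ∀ y ∈ Y.G 9, y⁻¹ * autFun φ y ∈ R ⊔ Y.G 7 := fun y hy => by
    rw [e hy]
    exact sup_le_sup_left (Y.p1_comm _ _) R (Tor.triv (Y.p1_index (by norm_num)) hR hr hr9 hw y hy)
  have k8 := Y.p1_step (by norm_num) h7 le_sup_right (k _ (Y.p1_mem (by norm_num) (by norm_num)))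
  have k9 := Y.p1_step (by norm_num) h8 k8 (k _ (Y.p1_mem (by norm_num) (by norm_num)))
  have k10 := Y.step (j := 9) (by norm_num) k9 (Y.ten ▸ mem_top r) hr9 (mem_sup_left hr)
  rw [Y.ten] at k10
  exact frattini_nongenerating (eq_top_iff.2 (k10.trans (sup_le_sup_left Y.frat R)))

/-- part 3.  Let `⊥ ≠ R ≤ G 9` be strongly closed (so normal).  `G 1 ≤ R` (`G1_le`), `G 2 ≤ R` (`e1`: an automorphism of `G 9` moves `g 0`
to an element of `G 2 \ G 1` (`ch92`), `step`).  If `R ≤ E2` (so `R ≤ G 9 ⊓ E2 = G 8`): for essential `E` with `Th3 E`, `la` gives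
`E ≤ G 5 ⊔ R ≤ G 8`, against `nle`; so `R` lies in all essential subgroups and is normal in `F` (`normal_of_wc_of_le_essential`),
against `core = ⊥`.  So there is `r ∈ R \ E2`.  If `E2` were essential: `ext2`, `lift`, `wt` give `φ` with `α = -1`, and
`(g 9)⁻¹ φ (g 9) ∈ R ⊔ ⁅E2, E2⁆ ≤ G 9` (`Tor.triv`, `cTT`), but it is `≡ (g 9)⁻²` mod `G 9`.  So `E2` is not essential, `G 5 ≤ R` (`V_le`), and for
`E` from `e3`, `E ≤ G 5 ⊔ R = R` (`la`). -/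
theorem Cx.sc_le (h : Y.Cx F) (hO : F.core = ⊥) {R : Subgroup P} (hR : F.StronglyClosed R) (h0 : R ≠ ⊥) (h9 : R ≤ Y.G 9) :
    ¬ F.IsEssential 3 Y.E2 ∧ Y.G 2 ≤ R ∧ ∃ E, F.IsEssential 3 E ∧ Y.Th3 E ∧ E ⊔ Y.G 5 ≤ R := by
  have := Y.finite
  have := P1.normal_of_sc hR
  have := Y.normalE2
  have h1 := Y.G1_le h0
  obtain ⟨-, hmv⟩ := h.e1 hO
  have h2 : Y.G 2 ≤ R := by
    by_contra H
    refine hmv fun α hα y hy hy1 => by_contra fun H' => H (Y.step (j := 1) (by norm_num) h1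
      (Y.ch92 α trivial y hy (Y.mono 1 (by norm_num) hy1)) H' (autInv_of_sc hR le_top α hα y hy (h1 hy1)))
  have k : ∀ E, F.IsEssential 3 E → Y.Th3 E → E ≤ Y.G 5 ⊔ R := fun E hE hT y hy => by
    obtain ⟨-, κ, hκ, H⟩ := Y.la h.sat hE hT
    obtain ⟨c, hc, z, hz, rfl⟩ := H y hy
    exact mul_mem_sup hc (autInv_of_sc hR le_top κ hκ z (hT.ge hz) (h2 hz))
  have hn : ¬ R ≤ Y.E2 := fun H => by
    have h8 : R ≤ Y.G 8 := fun x hx => by_contra fun H' =>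
      Y.E2_ne (Y.step (j := 8) (by norm_num) Y.p1_G8 (h9 hx) H' (H hx) (Y.mem 8 (by norm_num)))
    have := normal_of_wc_of_le_essential Y.pg h.sat (sc_weaklyClosed hR) fun E hE => by
      rcases h.ess E hE with rfl | rfl | hT
      exacts [h9, H, (hT.nle ((k E hE hT).trans (sup_le (Y.le (by norm_num) (by norm_num)) h8))).elim]
    exact h0 (eq_bot_iff.2 (hO ▸ le_sSup this))
  obtain ⟨r, hr, hrE⟩ := SetLike.not_le_iff_exists.1 hn
  have n2 : ¬ F.IsEssential 3 Y.E2 := fun hE => by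
    obtain ⟨w, hw, -, w2⟩ := Y.ext2 h.sat hE
    obtain ⟨φ, -, e⟩ := lift Y.pg h.sat hw.mem hw.norm
    obtain ⟨α, β, hα, -, h9', -, -, h2', -⟩ := Y.wt φ
    obtain rfl : α = -1 := Y.W_unique (by norm_num) hα (Or.inr rfl) h2'
      (P1.W_congr w2 (e (Y.p1_G8 (Y.p1_mem (by norm_num) (by norm_num)))))
    refine Y.p1_notW (by norm_num) h9' ?_
    rw [e Y.p1_g9]
    exact sup_le h9 ((Y.p1_comm _ _).trans (Y.le (by norm_num) (by norm_num)))
      (Tor.triv Y.p1_indexE2 hR hr hrE hw _ Y.p1_g9)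
  have h5 := Y.V_le h2 hr (h9 hr) fun H => hrE (Y.p1_G8 H)
  obtain ⟨E, hE, hT⟩ := h.e3 hO n2
  exact ⟨n2, h2, E, hE, hT, sup_le ((k E hE hT).trans (sup_le h5 le_rfl)) h5⟩

/-- the common part of `eq_top` and `aut_top_le` -/
theorem Cx.p1_det (h : Y.Cx F) (h2 : ¬ F.IsEssential 3 Y.E2) {R : Subgroup P} {D : FusionSystem R}
    (hD : D.IsWeaklyNormalIn F 3) {E X : Subgroup P} (hE : F.IsEssential 3 E) (hT : Y.Th3 E) (hEX : E ⊔ Y.G 5 ≤ X)
    (hX : X ≤ R) (h9 : X ≤ Y.G 9) : ∃ δ, Mor D X δ ∧ Det (Y.g 0) (Y.g 1) δ (-1) := by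
  have := Y.finite
  obtain ⟨hs, -, hI⟩ := hD
  have hER := hEX.trans hX
  have hE' : E ≤ R := le_sup_left.trans hER
  obtain ⟨⟨w, hw, hd, -⟩, -⟩ := Y.la h.sat hE hT
  have hwD : w ∈ D.autGroup E := hw.cl _ (fun α hα => by
    obtain ⟨g, -, hg, rfl⟩ := mem_autInducedBy_iff_cjAut.1 hα
    exact cjAut_mem_autGroup D hE' (hER (hT.norm ▸ hg)) hg) ((sInv_of_invariant hI).le_normalizer hE' le_top)
  have hc : D.IsCentric E := ⟨hE', fun Q hQ x hx => hE.1.2 Q (isConj_of_subsystem hI.1 hQ)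
    (mem_centralizerIn.2 ⟨trivial, (mem_centralizerIn.1 hx).2⟩)⟩
  obtain ⟨f, hf, e⟩ := hT.extend hER hs hc hwD hw.norm
  obtain ⟨δ, hδ, e'⟩ := climb (isPGroup_of_le Y.pg le_top) hs (isCentric_of_le hc le_sup_left hER) hX
    (fun Q f hQ hQ' hf => by
      obtain ⟨γ, hγ, -, e⟩ := h.up h2 (hQ'.trans h9) (hT.card_lt.trans_le (Subgroup.card_le_of_le hQ))
        (hf.of_subsystem hI.1)
      exact ⟨γ, hγ.isHomOn.mono h9, fun x hx => sc_map_mem hI.2.1 hγ (h9 hx) (hX hx), e⟩) le_rfl hEX hf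
  have k : ∀ i < 2, δ (Y.g i) = autFun w (Y.g i) := fun i hi =>
    have := hT.ge (Y.p1_mem hi (by norm_num))
    (e' (mem_sup_left this)).trans (e this)
  exact ⟨δ, hδ, P1.det_congr hd (k 0 (by norm_num)) (k 1 (by norm_num))⟩

/-- part 4.  If `R ≤ G 9`: take `E` from `sc_le`, `w` from `la`.  `autInducedBy ⊤ E = autInducedBy (E ⊔ G 5) E ≤ Aut_D(E)`, which is normalized by
`Aut_F(E)` (`sInv_of_invariant`, `SInv.le_normalizer`), so `w ∈ Aut_D(E)`; `E` is `D`-centric (it is `F`-centric); `Th3.extend`, then `climb` with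
`Q₀ = E ⊔ G 5`, `X = R` (`up`: `γ` maps `R` into `R`, strongly closed) give `δ ∈ Aut_D(R)` equal to `w` on `G 2`; `no_det` with
`A = Aut_D(R)` (`sylIn_inn_top`, `SInv.le_normalizer`). -/
theorem Cx.eq_top (h : Y.Cx F) (hO : F.core = ⊥) {R : Subgroup P} {D : FusionSystem R} (hD : D.IsWeaklyNormalIn F 3)
    (h0 : R ≠ ⊥) : R = ⊤ := by
  have := Y.finite
  have hR := hD.2.2.2.1
  have := P1.normal_of_sc hR
  refine h.top_of_not_le hO hR fun h9 => ?_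
  obtain ⟨n2, h2, E, hE, hT, hER⟩ := h.sc_le hO hR h0 h9
  obtain ⟨δ, hδ, hd⟩ := h.p1_det n2 hD hE hT hER le_rfl h9
  obtain ⟨δ', hδ', e⟩ := hδ.exists_aut hδ.img_top
  have hs : Y.g 9 ∈ normalizer (R : Set P) := by rw [normalizer_eq_top]; trivial
  exact Y.no_det h2 h9 hs (sylIn_inn_top (isPGroup_of_le Y.pg le_top) hD.1)
    ((sInv_of_invariant hD.2.2).le_normalizer le_rfl le_top (cjAut_mem_autGroup F le_top trivial hs)) hδ'
    (P1.det_congr hd (e (h2 (Y.p1_mem (by norm_num) (by norm_num)))) (e (h2 (Y.p1_mem (by norm_num) (by norm_num)))))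

end Sy

end CL.T3
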