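/- S5228: simplicity from the list of essential subgroups. -/
import Cfsg.Agent.FUS.T3.P1
set_option autoImplicit false

namespace CL.T3
open Cfsg Cfsg.FusionSystem CL.Fus Subgroup

variable {P : Type*} [Group P]

namespace Sy
variable {Y : Sy P} {F : FusionSystem (⊤ : Subgroup P)}

/-- STUB `T3/P2`, part 1.  For `E ≤ ⊤`, `Aut_D(E)` contains `autInducedBy ⊤ E` and is normalized by `Aut_F(E)` (`SInv.le_normalizer`), so it contains
every `w` with `Tor F E w`.  `e1`, `ext1`, `lift` (in `D`) give `φ₁ ∈ Aut_D(⊤)` with `(α, β) = (1, -1)`.  There is `φ₂ ∈ Aut_D(⊤)` with `α = -1`: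
if `E2` is essential by `ext2`, `lift`, `wt`; otherwise `e3`, `la`, `Th3.extend` (`R = ⊤`), `climb` (`Q₀ = E ⊔ G 5`, `X = G 9`, `up`) give a `D`-map
`δ` on `G 9` with image `G 9` (`up` again) and determinant `-1`; `det_norm` (`A = Aut_D(G 9)`, `sylIn_of_fullyNormalized`), `lift`, `W_of_det`.
Any `φ ∈ Aut_F(⊤)` times `1, φ₁, φ₂` or `φ₁φ₂` has `α = β = 1` (`wt`, `W_mul`), so is inner (`top_inn`). -/
theorem Cx.aut_top_le (h : Y.Cx F) (hO : F.core = ⊥) {D : FusionSystem (⊤ : Subgroup P)} (hD : D.IsWeaklyNormalIn F 3) :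
    F.autGroup ⊤ ≤ D.autGroup ⊤ := by
  have := Y.finite
  have := Y.normal (j := 9) (by norm_num)
  have := Y.normalE2
  have hI := hD.2.2
  have tor : ∀ (E : Subgroup P) (w : MulAut E), Tor F E w → w ∈ D.autGroup E := fun E w hw =>
    hw.cl _ (autInducedBy_le_autGroup D le_top) ((sInv_of_invariant hI).le_normalizer le_top le_top)
  have sg : ∀ {α β : ℤ}, (α = 1 ∨ α = -1) → (β = 1 ∨ β = -1) → α * β = 1 ∨ α * β = -1 := by
    rintro _ _ (rfl | rfl) (rfl | rfl) <;> simp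
  obtain ⟨φ₁, m₁, a₁, b₁⟩ : ∃ φ ∈ D.autGroup ⊤, Y.W (autFun φ) 9 1 ∧ Y.W (autFun φ) 8 (-1) := by
    obtain ⟨hE, hmv⟩ := h.e1 hO
    obtain ⟨w, hw, w0, w1⟩ := Y.ext1 h.sat hE hmv
    obtain ⟨φ, hφ, e⟩ := lift Y.pg hD.1 (tor _ w hw) hw.norm
    obtain ⟨α, β, hα, hβ, h9, h8, -, -, h1, h0⟩ := Y.wt φ
    obtain rfl : β = -1 := Y.W_unique (by norm_num) hβ (Or.inr rfl) h0
      (P1.W_congr w0 (e (Y.p1_mem (by norm_num) (by norm_num))))
    have := Y.W_unique (j := 1) (by norm_num) (sg hα hβ) (Or.inr rfl) h1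
      (P1.W_congr w1 (e (Y.p1_mem (by norm_num) (by norm_num))))
    obtain rfl : α = 1 := by omega
    exact ⟨φ, hφ, h9, h8⟩
  obtain ⟨φ₂, m₂, a₂⟩ : ∃ φ ∈ D.autGroup ⊤, Y.W (autFun φ) 9 (-1) := by
    by_cases hE : F.IsEssential 3 Y.E2
    · obtain ⟨w, hw, -, w2⟩ := Y.ext2 h.sat hE
      obtain ⟨φ, hφ, e⟩ := lift Y.pg hD.1 (tor _ w hw) hw.norm
      obtain ⟨α, β, hα, -, h9, -, -, h2, -⟩ := Y.wt φ
      obtain rfl : α = -1 := Y.W_unique (by norm_num) hα (Or.inr rfl) h2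
        (P1.W_congr w2 (e (Y.p1_G8 (Y.p1_mem (by norm_num) (by norm_num)))))
      exact ⟨φ, hφ, h9⟩
    · obtain ⟨E, hE', hT⟩ := h.e3 hO hE
      obtain ⟨δ, hδ, hd⟩ := h.p1_det hE hD hE' hT (sup_le hT.le (Y.le (by norm_num) (by norm_num))) le_top le_rfl
      obtain ⟨γ, -, hγ, e⟩ := h.up hE le_rfl (by rw [Y.card 9 (by norm_num)]; norm_num) (hδ.of_subsystem hI.1)
      obtain ⟨δ', hδ', e'⟩ := hδ.exists_aut ((img_congr e).symm.trans hγ)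
      have g0 : Y.g 0 ∈ Y.G 9 := Y.p1_mem (by norm_num) (by norm_num)
      have g1 : Y.g 1 ∈ Y.G 9 := Y.p1_mem (by norm_num) (by norm_num)
      obtain ⟨ν, hν, hn, hd'⟩ := Y.det_norm (sylIn_of_fullyNormalized Y.pg hD.1
        (fullyNormalized_of_normal D le_top (by rw [normalizer_eq_top]))) hδ' (P1.det_congr hd (e' g0) (e' g1))
      obtain ⟨φ, hφ, e''⟩ := lift Y.pg hD.1 hν hn
      exact ⟨φ, hφ, Y.W_of_det φ (P1.det_congr hd' (e'' g0) (e'' g1))⟩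
  have fin : ∀ φ ∈ F.autGroup ⊤, ∀ ψ ∈ D.autGroup ⊤, Y.W (autFun (φ * ψ)) 9 1 → Y.W (autFun (φ * ψ)) 8 1 →
      φ ∈ D.autGroup ⊤ := fun φ hφ ψ hψ h9 h8 =>
    (mul_mem_cancel_right hψ).1 (inn_le_autGroup D le_rfl
      (Y.top_inn h.sat (mul_mem hφ (autGroup_mono hI.1 _ hψ)) h9 h8))
  have one : ∀ φ ∈ F.autGroup ⊤, Y.W (autFun φ) 9 1 → φ ∈ D.autGroup ⊤ := fun φ hφ h9 => by
    obtain ⟨α, β, -, rfl | rfl, -, h8, -⟩ := Y.wt φ
    · exact fin φ hφ 1 (one_mem _) (by rwa [mul_one]) (by rwa [mul_one])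
    · exact fin φ hφ φ₁ m₁ (Y.W_mul φ φ₁ (by norm_num) h9 a₁) (Y.W_mul φ φ₁ (by norm_num) h8 b₁)
  intro φ hφ
  obtain ⟨α, β, rfl | rfl, -, h9, -⟩ := Y.wt φ
  · exact one φ hφ h9
  · exact (mul_mem_cancel_right m₂).1 (one _ (mul_mem hφ (autGroup_mono hI.1 _ m₂))
      (Y.W_mul φ φ₂ (by norm_num) h9 a₂))

/-- part 2: `eq_top`, `aut_top_le`, `le_of_autGroup_normal`. -/
theorem Cx.isSimple (h : Y.Cx F) (hO : F.core = ⊥) : F.IsSimple 3 := by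
  have := Y.finite
  refine ⟨h.sat, fun e => Y.notMem 0 (by norm_num) (by rw [Y.zero, ← e]; trivial), fun T D hD => ?_⟩
  refine or_iff_not_imp_left.2 fun h0 => ?_
  obtain rfl := h.eq_top hO hD.1 h0
  have := le_of_autGroup_normal Y.pg h.sat hD.1.2.2.1 (h.aut_top_le hO hD.1) fun Q _ =>
    (sInv_of_invariant hD.1.2.2).le_normalizer le_top le_top
  exact ⟨rfl, hom_eq_iff_mor.2 fun Q f => ⟨fun hf => hf.of_subsystem hD.1.2.2.1, fun hf => hf.of_subsystem this⟩⟩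

end Sy

end CL.T3
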