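/- S5228: the polycyclic relations in the Thompson group. -/
import Cfsg.Agent.FUS.T3.Rel
import Cfsg.Agent.FUS.T3.ThD
import Cfsg.Agent.SPOR.ThG
import Cfsg.Agent.Eqns.CL_T3_wdj
set_option autoImplicit false
set_option Elab.async false
set_option maxRecDepth 100000

namespace CL.T3
open CL.K CL.CG CL.MR CL.ThG

section
variable {X : Type*} [Group X] {φ : X → ℕ} {mul : ℕ → ℕ → ℕ} {one : ℕ}

theorem mem_getD (C : IsCode φ mul one) {r : List ℕ} (h : ∀ c ∈ r, Mem φ ⊤ c) (i : ℕ) : Mem φ ⊤ (r.getD i one) := by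
  rw [List.getD_eq_getElem?_getD]
  cases e : r[i]? with
  | none => exact C.mem_one _
  | some c => exact h c (List.mem_of_getElem? e)

theorem mem_run (C : IsCode φ mul one) {prog : List (ℕ × ℕ)} {k : List ℕ → Bool} {r : List ℕ} (h : ∀ c ∈ r, Mem φ ⊤ c)
    (hc : run mul one prog k r = true) : ∃ r', (∀ c ∈ r', Mem φ ⊤ c) ∧ k r' = true := by
  induction prog generalizing r with
  | nil => exact ⟨r, h, hc⟩
  | cons s prog ih =>
    exact ih (List.forall_mem_cons.2 ⟨C.mem_mul (mem_getD C h _) (mem_getD C h _), h⟩)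
      ((force_eq _ fun c => run mul one prog k (c :: r)).symm.trans hc)

theorem mem_of_run (C : IsCode φ mul one) {prog I : List (ℕ × ℕ)} {r gs : List ℕ} (h : ∀ c ∈ r, Mem φ ⊤ c)
    (hc : run mul one prog (fun r => I.all fun e => Nat.beq (r.getD e.1 one) (gs.getD e.2 one)) r = true) :
    ∀ e ∈ I, Mem φ ⊤ (gs.getD e.2 one) := fun e he => by
  obtain ⟨r', h1, h2⟩ := mem_run C h hc
  exact Nat.eq_of_beq_eq_true (List.all_eq_true.1 h2 e he) ▸ mem_getD C h1 _

/-- the code of `a * wdj g x j` -/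
noncomputable def wdc (mul : ℕ → ℕ → ℕ) (G : ℕ → ℕ) (x j : ℕ) : ℕ → ℕ :=
  Nat.rec (motive := fun _ => ℕ → ℕ) (fun a => a) (fun j ih a => ih (bif Nat.beq (dg x j) 0 then a else
    bif Nat.beq (dg x j) 1 then mul a (G j) else mul (mul a (G j)) (G j))) j

theorem wdc_eq (C : IsCode φ mul one) {g : ℕ → X} {G : ℕ → ℕ} (h : ∀ j, φ (g j) = G j) (x j : ℕ) (a : X) :
    wdc mul G x j (φ a) = φ (a * wdj g x j) := by
  induction j generalizing a with
  | zero => rw [wdj, mul_one]; rfl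
  | succ j ih =>
    rw [wdj, ← mul_assoc, ← ih]
    refine congrArg (wdc mul G x j) ?_
    have h3 : dg x j < 3 := Nat.mod_lt _ (by norm_num)
    generalize dg x j = d at h3
    rw [← h]
    interval_cases d <;> simp [C.map_mul, pow_two, mul_assoc, Nat.beq]

noncomputable def pcj (mul : ℕ → ℕ → ℕ) (one : ℕ) (G : ℕ → ℕ) (j : ℕ) : Bool :=
  Nat.beq (mul (mul (G j) (G j)) (G j)) (frc (cub (p3 j)) fun x => wdc mul G x 10 one) &&
    allLt (fun i => Nat.beq (mul (G i) (G j)) (frc (cjc (iv (p3 j)) (p3 i)) fun x => wdc mul G x 10 (G j))) j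

theorem pc_of (C : IsCode φ mul one) {g : ℕ → X} {G : ℕ → ℕ} (h : ∀ j, φ (g j) = G j)
    (hc : ∀ j < 10, pcj mul one G j = true) : Pc g := by
  simp only [pcj, Bool.and_eq_true, allLt_iff, Nat.beq_eq, frc_eq, p3_eq] at hc
  refine ⟨fun j hj => C.inj ?_, fun j hj i hi => C.inj ?_⟩
  · have := (hc j hj).1
    rwa [← C.map_one, wdc_eq C h, ← h, C.map_mul, C.map_mul, one_mul, mul_assoc, ← pow_three] at this
  · have := (hc j hj).2 i hi
    rwa [← h, ← h, wdc_eq C h, C.map_mul] at this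

end

theorem codeT : IsCode (fun t => φM (ρ t)) mulM oneM := codeM.comp ρ faithful.2

theorem mem_cs : ∀ c ∈ cs, Mem (fun t => φM (ρ t)) ⊤ c := fun c hc => by
  obtain ⟨a, ha, rfl⟩ := List.getElem_of_mem hc
  have ha' : a < 11 := ha
  refine ⟨g a, trivial, ?_⟩
  have e : CE.subst gM mw a = gM a := by interval_cases a <;> exact CE.ev_singleton _ _
  beta_reduce
  rw [ρ_apply a ha', e, ← List.getD_eq_getElem _ oneM ha]
  exact (ltrsM.mem a).code_elt

theorem thm9_mem : Mem (fun t => φM (ρ t)) ⊤ (thc.getD 9 oneM) :=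
  mem_of_run codeT (prog := thP9) (I := [(0, 9)]) (gs := thc) mem_cs (by decide +kernel) (0, 9) (List.mem_singleton_self _)

theorem thm7_mem : Mem (fun t => φM (ρ t)) ⊤ (thc.getD 7 oneM) :=
  mem_of_run codeT (prog := thP7) (I := [(0, 7)]) (gs := thc) mem_cs (by decide +kernel) (0, 7) (List.mem_singleton_self _)

theorem thm0_mem : ∀ e ∈ thI0, Mem (fun t => φM (ρ t)) ⊤ (thc.getD e.2 oneM) :=
  mem_of_run codeT (prog := thP0) (r := thc.getD 9 oneM :: cs) (List.forall_mem_cons.2 ⟨thm9_mem, mem_cs⟩) (by decide +kernel)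

theorem thc_mem (j : ℕ) : Mem (fun t => φM (ρ t)) ⊤ (thc.getD j oneM) := by
  by_cases hj : j < 10
  · have h := thm0_mem
    simp only [thI0, List.forall_mem_cons] at h
    interval_cases j
    exacts [h.1, h.2.1, h.2.2.1, h.2.2.2.1, h.2.2.2.2.1, h.2.2.2.2.2.1, h.2.2.2.2.2.2.1, thm7_mem, h.2.2.2.2.2.2.2.1, thm9_mem]
  · rw [List.getD_eq_default _ _ (not_lt.1 hj)]
    exact codeT.mem_one _

theorem pc5 : allLt (pcj mulM oneM fun j => thc.getD j oneM) 6 = true := by decide +kernel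
theorem pc6 : pcj mulM oneM (fun j => thc.getD j oneM) 6 = true := by decide +kernel
theorem pc7 : pcj mulM oneM (fun j => thc.getD j oneM) 7 = true := by decide +kernel
theorem pc8 : pcj mulM oneM (fun j => thc.getD j oneM) 8 = true := by decide +kernel
theorem pc9 : pcj mulM oneM (fun j => thc.getD j oneM) 9 = true := by decide +kernel
theorem pc0 : Nat.beq (thc.getD 0 oneM) oneM = false := by decide +kernel

theorem exists_md_Th : ∃ Q : Subgroup Cfsg.Spor.Th, Nonempty (Md Q) := by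
  have h : ∀ j, (fun t => φM (ρ t)) (elt _ (thc.getD j oneM)) = thc.getD j oneM := fun j => (thc_mem j).code_elt
  refine (pc_of codeT h fun j hj => ?_).exists_md fun e => Nat.ne_of_beq_eq_false pc0 ?_
  · by_cases h6 : j < 6
    · exact allLt_iff.1 pc5 j h6
    · have : 6 ≤ j := not_lt.1 h6
      interval_cases j
      exacts [pc6, pc7, pc8, pc9]
  · rw [← h 0, e]
    exact codeT.map_one

end CL.T3
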